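import Mathlib
import Cfsg.Agent.S0675
import Cfsg.Agent.S3559
import Cfsg.Agent.S3972
import Cfsg.Agent.S0205
import Cfsg.Agent.Lib.Block.QuaternionSylow

/-!
# Transitive groups with a regular cyclic subgroup and a Z-group as point stabiliser

Such a group is the product of the cyclic subgroup and the stabiliser.  If it is not solvable, the degree and
the stabiliser order are even; if it is also primitive, it is doubly transitive and a two-point stabiliser is
cyclic.
-/

set_option autoImplicit false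
set_option linter.style.haveILetI false
set_option linter.unusedSectionVars false

namespace Cfsg.Agent.Invol.CyclicZ

open MulAction Subgroup
open scoped commutatorElement

/-- A faithful action with a cyclic regular subgroup whose point stabiliser at `α` is a Z-group. -/
structure Cfg {G : Type*} [Group G] {Ω : Type*} [MulAction G Ω] (A : Subgroup G) (α : Ω) : Prop where
  faithful : ∀ g : G, (∀ x : Ω, g • x = x) → g = 1
  cyc : IsCyclic ↥A
  trans : ∀ x y : Ω, ∃ a ∈ A, a • x = y
  semi : ∀ a ∈ A, ∀ x : Ω, a • x = x → a = 1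
  zgrp : IsZGroup ↥(stabilizer G α)

section Sign

variable {G : Type*} [Group G] {Ω : Type*} [MulAction G Ω] [Finite Ω]

variable (G Ω) in
/-- The sign of the permutation induced by a group element. -/
noncomputable def sgn : G →* ℤˣ :=
  haveI := Fintype.ofFinite Ω
  haveI := Classical.decEq Ω
  Equiv.Perm.sign.comp (toPermHom G Ω)

theorem units_sq (u : ℤˣ) : u * u = 1 := Int.units_mul_self u

theorem units_cases (u : ℤˣ) : u = 1 ∨ u = -1 := Int.units_eq_one_or u

/-- An element whose powers are transitive on an even number of points is odd. -/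
theorem sgn_of_transitive {g : G} (heven : Even (Nat.card Ω)) [Nonempty Ω]
    (htr : ∀ x y : Ω, ∃ i : ℤ, g ^ i • x = y) : sgn G Ω g = -1 := by
  letI := Fintype.ofFinite Ω
  letI := Classical.decEq Ω
  have hn : 2 ≤ Nat.card Ω := by
    obtain ⟨k, hk⟩ := heven
    have := Nat.card_pos (α := Ω)
    omega
  haveI : Nontrivial Ω := Finite.one_lt_card_iff_nontrivial.1 (by omega)
  have hne : ∀ x : Ω, g • x ≠ x := by
    intro x hx
    obtain ⟨y, hy⟩ := exists_ne x
    obtain ⟨i, hi⟩ := htr x y
    have hfix : g ^ i • x = x := by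
      have h1 : g ∈ stabilizer G x := hx
      exact (stabilizer G x).zpow_mem h1 i
    exact hy (hi ▸ hfix)
  have hsupp : (toPermHom G Ω g).support = Finset.univ := by
    refine Finset.eq_univ_of_forall fun x => Equiv.Perm.mem_support.2 ?_
    exact hne x
  have hcyc : (toPermHom G Ω g).IsCycle := by
    obtain ⟨x⟩ := ‹Nonempty Ω›
    refine ⟨x, hne x, fun y _ => ?_⟩
    obtain ⟨i, hi⟩ := htr x y
    refine ⟨i, ?_⟩
    rw [← map_zpow]
    exact hi
  show Equiv.Perm.sign (toPermHom G Ω g) = -1
  rw [hcyc.sign, hsupp, Finset.card_univ, ← Nat.card_eq_fintype_card, heven.neg_one_pow]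

/-- A homomorphism to signs which is non-trivial is non-trivial on a point stabiliser of a primitive action. -/
theorem sgn_stab_ne [IsPreprimitive G Ω] [Finite G] (χ : G →* ℤˣ) (h3 : 3 ≤ Nat.card Ω) {g₀ : G} (hg : χ g₀ ≠ 1)
    (x : Ω) : ∃ b ∈ stabilizer G x, χ b = -1 := by
  by_contra hcon
  push Not at hcon
  have hle : stabilizer G x ≤ χ.ker := fun b hb => (units_cases (χ b)).resolve_right (hcon b hb)
  have hne : χ.ker ≠ ⊤ := fun e => hg (e.ge (mem_top g₀) : g₀ ∈ χ.ker)
  haveI : Nontrivial Ω := Finite.one_lt_card_iff_nontrivial.1 (by omega)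
  have heq : χ.ker = stabilizer G x := (hle.lt_or_eq.resolve_left fun hlt =>
    hne ((IsPreprimitive.isCoatom_stabilizer_of_isPreprimitive (G := G) x).2 _ hlt)).symm
  have h1 : (stabilizer G x).index ≤ 2 := by
    rw [← heq, index_ker]
    refine (card_le_card_group χ.range).trans ?_
    rw [Nat.card_eq_fintype_card, Fintype.card_units_int]
  rw [index_stabilizer_of_transitive] at h1
  omega

/-- A generator of a Sylow 2-subgroup is odd for a non-trivial sign. -/
theorem sgn_sylow {B : Type*} [Group B] [Finite B] (χ : B →* ℤˣ) (hne : ∃ b, χ b = -1) (P : Sylow 2 B) {y : B}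
    (hy : (P : Subgroup B) ≤ zpowers y) : χ y = -1 := by
  refine (units_cases (χ y)).resolve_left fun h1 => ?_
  have hle : (P : Subgroup B) ≤ χ.ker := hy.trans (zpowers_le.2 h1)
  obtain ⟨b, hb⟩ := hne
  have h2 : χ.ker.index = 2 := by
    rw [index_ker]
    have htop : χ.range = ⊤ := by
      refine eq_top_iff.2 fun u _ => ?_
      rcases units_cases u with rfl | rfl
      exacts [one_mem _, ⟨b, hb⟩]
    rw [htop, Subgroup.card_top, Nat.card_eq_fintype_card, Fintype.card_units_int]
  haveI : Fact (Nat.Prime 2) := ⟨Nat.prime_two⟩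
  exact P.not_dvd_index ((show 2 ∣ χ.ker.index by rw [h2]).trans (Subgroup.index_dvd_of_le hle))

end Sign

/-- A group with a cyclic Sylow 2-subgroup is solvable. -/
theorem solvable_of_cyclic_two {G : Type*} [Group G] [Finite G] (S : Sylow 2 G) (hS : IsCyclic ↥(S : Subgroup G)) :
    Group.IsSolvable G := by
  haveI : Fact (Nat.Prime 2) := ⟨Nat.prime_two⟩
  obtain ⟨K, hKn, hK2, hKi⟩ := Block.cyclic_two_complement S hS
  haveI := hKn
  haveI : Group.IsSolvable ↥K := Cfsg.Agent.S0205.result (Nat.odd_iff.2 (Nat.two_dvd_ne_zero.1 hK2))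
  obtain ⟨k, hk⟩ := IsPGroup.iff_card.1 S.isPGroup'
  haveI : Group.IsNilpotent (G ⧸ K) :=
    (IsPGroup.of_card (p := 2) (n := k) (by rw [← hk, ← hKi]; rfl) : IsPGroup 2 (G ⧸ K)).isNilpotent
  exact Group.isSolvable_of_ker_le_range K.subtype (QuotientGroup.mk' K) (by simp)

/-- In a cyclic group every automorphism fixes every subgroup. -/
theorem conj_mem_of_cyclic {G : Type*} [Group G] {C : Subgroup G} [C.Normal] (hC : IsCyclic ↥C) {K : Subgroup G}
    (hKC : K ≤ C) (g : G) {x : G} (hx : x ∈ K) : g * x * g⁻¹ ∈ K := by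
  obtain ⟨m, hm⟩ := MonoidHom.map_cyclic (MulAut.conjNormal (H := C) g).toMonoidHom
  have h1 := congrArg Subtype.val (hm ⟨x, hKC hx⟩)
  simp only [MulEquiv.coe_toMonoidHom, MulAut.conjNormal_apply, SubgroupClass.coe_zpow] at h1
  rw [h1]
  exact K.zpow_mem hx m

/-- In a cyclic group two involutions are equal. -/
theorem invol_unique {G : Type*} [Group G] {D : Subgroup G} (hD : IsCyclic ↥D) [Finite ↥D] {u v : G} (hu : u ∈ D) (hv : v ∈ D)
    (huu : u * u = 1) (hu1 : u ≠ 1) (hvv : v * v = 1) (hv1 : v ≠ 1) : u = v := by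
  classical
  haveI := Fintype.ofFinite ↥D
  haveI := hD
  have h1 := IsCyclic.card_pow_eq_one_le (α := ↥D) (n := 2) two_pos
  by_contra hne
  have hsub : ({(1 : ↥D), ⟨u, hu⟩, ⟨v, hv⟩} : Finset ↥D) ⊆ Finset.univ.filter fun a => a ^ 2 = 1 := by
    intro a ha
    simp only [Finset.mem_insert, Finset.mem_singleton] at ha
    refine Finset.mem_filter.2 ⟨Finset.mem_univ _, ?_⟩
    rcases ha with rfl | rfl | rfl
    · exact one_pow 2
    · exact Subtype.ext (by rw [SubmonoidClass.coe_pow, pow_two]; exact huu)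
    · exact Subtype.ext (by rw [SubmonoidClass.coe_pow, pow_two]; exact hvv)
  have h2 := (Finset.card_le_card hsub).trans h1
  rw [Finset.card_insert_of_notMem, Finset.card_insert_of_notMem, Finset.card_singleton] at h2
  · omega
  · simp only [Finset.mem_singleton, Subtype.mk.injEq]; exact hne
  · simp only [Finset.mem_insert, Finset.mem_singleton, Subtype.ext_iff, OneMemClass.coe_one, not_or]
    exact ⟨Ne.symm hu1, Ne.symm hv1⟩

namespace Cfg

variable {G : Type*} [Group G] [Finite G] {Ω : Type*} [MulAction G Ω] [Finite Ω] {A : Subgroup G} {α : Ω}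
  (h : Cfg A α)
include h

theorem faithfulSMul : FaithfulSMul G Ω :=
  ⟨fun {g₁ g₂} hg => inv_mul_eq_one.1 (h.faithful _ fun x => by rw [mul_smul, ← hg x, inv_smul_smul])⟩

theorem pretransitive : IsPretransitive G Ω :=
  ⟨fun x y => let ⟨a, _, ha⟩ := h.trans x y; ⟨a, ha⟩⟩

theorem card_A : Nat.card ↥A = Nat.card Ω := by
  refine Nat.card_eq_of_bijective (fun a : ↥A => (a : G) • α) ⟨fun a b hab => Subtype.ext ?_, fun y => ?_⟩
  · refine inv_mul_eq_one.1 (h.semi _ (mul_mem (inv_mem a.2) b.2) α ?_)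
    rw [mul_smul, inv_smul_eq_iff]
    exact hab.symm
  · obtain ⟨a, ha, e⟩ := h.trans α y
    exact ⟨⟨a, ha⟩, e⟩

theorem exists_mul (g : G) : ∃ a ∈ A, ∃ b ∈ stabilizer G α, g = a * b := by
  obtain ⟨a, ha, e⟩ := h.trans α (g • α)
  exact ⟨a, ha, a⁻¹ * g, by rw [mem_stabilizer_iff, mul_smul, inv_smul_eq_iff, e], (mul_inv_cancel_left a g).symm⟩

theorem card_G : Nat.card G = Nat.card Ω * Nat.card ↥(stabilizer G α) := by
  haveI := h.pretransitive
  rw [← index_stabilizer_of_transitive G α, mul_comm, card_mul_index]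

/-- The degree is even, and so is the stabiliser, unless the group is solvable. -/
theorem even (hns : ¬ Group.IsSolvable G) : Even (Nat.card Ω) ∧ Even (Nat.card ↥(stabilizer G α)) := by
  haveI : Fact (Nat.Prime 2) := ⟨Nat.prime_two⟩
  haveI := h.zgrp
  have key : ∀ (H : Subgroup G), Odd H.index → (∀ P : Sylow 2 ↥H, IsCyclic ↥(P : Subgroup ↥H)) → False := by
    intro H hH hP
    obtain ⟨P⟩ : Nonempty (Sylow 2 ↥H) := inferInstance
    haveI := hP P
    have hndvd : ¬ 2 ∣ ((P : Subgroup ↥H).map H.subtype).index := by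
      rw [index_map_subtype, Nat.prime_two.dvd_mul]
      exact fun h2 => h2.elim P.not_dvd_index fun h3 => (Nat.not_even_iff_odd.2 hH) (even_iff_two_dvd.2 h3)
    let S : Sylow 2 G := (P.isPGroup'.map H.subtype).toSylow hndvd
    exact hns (solvable_of_cyclic_two S (isCyclic_of_surjective _
      ((P : Subgroup ↥H).equivMapOfInjective H.subtype H.subtype_injective).surjective))
  haveI := h.cyc
  constructor <;> by_contra hodd <;> rw [Nat.not_even_iff_odd] at hodd
  · refine key (stabilizer G α) ?_ fun P => inferInstance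
    haveI := h.pretransitive
    rwa [index_stabilizer_of_transitive]
  · refine key A ?_ fun P => inferInstance
    have h1 := A.card_mul_index
    rw [h.card_A, h.card_G] at h1
    rwa [Nat.eq_of_mul_eq_mul_left (h.card_A ▸ Nat.card_pos) h1]

theorem three_le (hns : ¬ Group.IsSolvable G) : 3 ≤ Nat.card Ω := by
  haveI := h.zgrp
  haveI := h.pretransitive
  by_contra hlt
  obtain ⟨⟨k, hk⟩, -⟩ := h.even hns
  have hpos : 0 < Nat.card Ω := h.card_A ▸ Nat.card_pos
  have h2 : (stabilizer G α).index = 2 := by rw [index_stabilizer_of_transitive]; omega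
  haveI := normal_of_index_eq_two h2
  haveI : IsCyclic (G ⧸ stabilizer G α) := isCyclic_of_prime_card (p := 2) (by rw [← index_eq_card, h2])
  haveI : Group.IsSolvable (G ⧸ stabilizer G α) := inferInstance
  exact hns (Group.isSolvable_of_ker_le_range (stabilizer G α).subtype (QuotientGroup.mk' (stabilizer G α)) (by simp))

/-- Burnside and Schur: the group is doubly transitive. -/
theorem two_trans (hns : ¬ Group.IsSolvable G) [hp : IsPreprimitive G Ω] : IsMultiplyPretransitive G Ω 2 := by
  classical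
  haveI := Fintype.ofFinite Ω
  haveI := h.faithfulSMul
  haveI := h.pretransitive
  have h3 := h.three_le hns
  obtain ⟨k, hk⟩ := (h.even hns).1
  by_cases hpp : IsPrimePow (Nat.card Ω)
  swap
  · refine (S3559.result h.pretransitive (by omega) hpp A h.cyc ⟨⟨fun x y => ?_⟩, fun x => ?_⟩).resolve_left
      (not_not.2 hp)
    · obtain ⟨a, ha, e⟩ := h.trans x y
      exact ⟨⟨a, ha⟩, e⟩
    · exact eq_bot_iff.2 fun a ha => mem_bot.2 (Subtype.ext (h.semi a a.2 x ha))
  obtain ⟨p, m, hprime, hm, hpm⟩ := hpp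
  have hp' := hprime.nat_prime
  obtain rfl : p = 2 := by
    have h2 : 2 ∣ p ^ m := hpm ▸ ⟨k, by omega⟩
    exact ((Nat.prime_dvd_prime_iff_eq Nat.prime_two hp').1 (Nat.prime_two.dvd_of_dvd_pow h2)).symm
  have hm2 : 2 ≤ m := by
    by_contra hlt
    have : m = 1 := by omega
    subst this
    omega
  by_contra h2t
  let f := (toPermHom G Ω).rangeRestrict
  have hf : Function.Surjective f := MonoidHom.rangeRestrict_surjective _
  obtain ⟨⟨a, ha⟩, hgen⟩ := h.cyc.exists_generator
  have hord : orderOf (f a) = 2 ^ m := by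
    have hinj : Function.Injective f := fun u v e => h.faithfulSMul.eq_of_smul_eq_smul fun x =>
      congrFun (congrArg (fun w : ↥(toPermHom G Ω).range => ⇑(w : Equiv.Perm Ω)) e) x
    rw [orderOf_injective f hinj, hpm, ← h.card_A, ← Nat.card_zpowers]
    refine Nat.card_congr (Equiv.setCongr (Set.ext fun x => ⟨fun hx => ?_, fun hx => ?_⟩))
    · exact zpowers_le.2 ha hx
    · obtain ⟨i, hi⟩ := hgen ⟨x, hx⟩
      exact ⟨i, congrArg Subtype.val hi⟩
  have hsmul : ∀ (g : G) (x : Ω), f g • x = g • x := fun g x => rfl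
  refine (S3972.result 2 m Nat.prime_two hm2 (by rw [← Nat.card_eq_fintype_card, hpm]) (toPermHom G Ω).range
    ⟨fun x y => ?_⟩ (fun h2 => h2t ?_) (f a) hord).1 ?_
  · obtain ⟨g, hg⟩ := exists_smul_eq G x y
    exact ⟨f g, hg⟩
  · rw [is_two_pretransitive_iff] at h2 ⊢
    intro a b c d hab hcd
    obtain ⟨⟨_, g, rfl⟩, hg1, hg2⟩ := h2 hab hcd
    exact ⟨g, hg1, hg2⟩
  · let F : Ω →ₑ[f] Ω := ⟨id, fun g x => rfl⟩
    exact IsPreprimitive.of_surjective (f := F) Function.surjective_id

/-- A two-point stabiliser is cyclic. -/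
theorem twoPoint_cyclic [h2 : IsMultiplyPretransitive G Ω 2] {β : Ω} (hβ : β ≠ α) :
    IsCyclic ↥(stabilizer G α ⊓ stabilizer G β) := by
  classical
  haveI := h.zgrp
  set B := stabilizer G α with hB
  let C : Subgroup ↥B := centralizer ((commutator ↥B : Subgroup ↥B) : Set ↥B)
  haveI : IsCyclic ↥(commutator ↥B) := IsZGroup.isCyclic_commutator _
  haveI hCn : C.Normal := inferInstance
  have hCab : ∀ a b : ↥C, a * b = b * a := by
    have hab : IsCyclic ↥(commutator ↥B) := inferInstance
    intro a b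
    -- `C` modulo its intersection with the derived group is cyclic, and that intersection is central
    let φ : ↥C →* Abelianization ↥B := Abelianization.of.comp C.subtype
    haveI : IsCyclic ↥φ.range := inferInstance
    refine commutative_of_cyclic_center_quotient φ.rangeRestrict
      (fun x hx => mem_center_iff.2 fun y => ?_) a b
    have hx' : (x : ↥B) ∈ commutator ↥B := by
      have h1 : Abelianization.of (x : ↥B) = 1 := congrArg Subtype.val (MonoidHom.mem_ker.1 hx)
      exact (QuotientGroup.eq_one_iff _).1 h1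
    exact Subtype.ext (mem_centralizer_iff.1 y.2 _ hx').symm
  haveI : IsMulCommutative ↥C := ⟨⟨hCab⟩⟩
  haveI : IsCyclic ↥C := by
    haveI : Group.IsNilpotent ↥C := by
      letI : CommGroup ↥C := { (inferInstance : Group ↥C) with mul_comm := hCab }
      infer_instance
    infer_instance
  set D : Subgroup ↥B := (stabilizer G β).subgroupOf B
  have hfree : ∀ c ∈ C, c ∈ D → c = 1 := by
    intro c hc hcD
    refine Subtype.ext (h.faithful _ fun x => ?_)
    by_cases hx : x = α
    · rw [hx]; exact c.2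
    obtain ⟨g, hg1, hg2⟩ := is_two_pretransitive_iff.1 h2 (Ne.symm hx) (Ne.symm hβ)
    have hgB : g ∈ B := hg1
    have h1 : (⟨g, hgB⟩ : ↥B) * c * (⟨g, hgB⟩ : ↥B)⁻¹ ∈ C ⊓ D :=
      conj_mem_of_cyclic ‹IsCyclic ↥C› inf_le_left _ ⟨hc, hcD⟩
    have h2 : (g * (c : G) * g⁻¹) • β = β := h1.2
    rwa [← hg2, mul_smul, inv_smul_smul, mul_smul, smul_left_cancel_iff] at h2
  have hab : ∀ d e : ↥D, d * e = e * d := by
    intro d e
    have hK : IsCyclic ↥(commutator ↥B) := inferInstance
    let σ : ↥B →* MulAut ↥(commutator ↥B) := MulAut.conjNormal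
    have hcomm : σ (d : ↥B) * σ e = σ e * σ d := by
      obtain ⟨m, hm⟩ := MonoidHom.map_cyclic (σ (d : ↥B)).toMonoidHom
      obtain ⟨n, hn⟩ := MonoidHom.map_cyclic (σ (e : ↥B)).toMonoidHom
      refine MulEquiv.ext fun x => ?_
      have hm' : ∀ x, σ (d : ↥B) x = x ^ m := hm
      have hn' : ∀ x, σ (e : ↥B) x = x ^ n := hn
      rw [MulAut.mul_apply, MulAut.mul_apply, hm', hn', hm', hn', ← zpow_mul, ← zpow_mul, mul_comm]
    rw [← commutatorElement_eq_one_iff_mul_comm]
    refine Subtype.ext (hfree _ (mem_centralizer_iff.2 fun x hx => ?_) (SetLike.coe_mem _))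
    have h1 : σ (⁅d, e⁆ : ↥D) = 1 := by
      rw [show ((⁅d, e⁆ : ↥D) : ↥B) = ⁅(d : ↥B), (e : ↥B)⁆ from rfl, map_commutatorElement,
        commutatorElement_eq_one_iff_mul_comm.2 hcomm]
    have h2 := congrArg Subtype.val (DFunLike.congr_fun h1 ⟨x, hx⟩)
    rw [MulAut.conjNormal_apply, MulAut.one_apply, mul_inv_eq_iff_eq_mul] at h2
    exact h2.symm
  haveI : IsCyclic ↥D := by
    haveI : Group.IsNilpotent ↥D := by
      letI : CommGroup ↥D := { (inferInstance : Group ↥D) with mul_comm := hab }
      infer_instance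
    infer_instance
  let e : ↥D ≃* ↥(B ⊓ stabilizer G β) :=
    { toFun := fun d => ⟨(d : G), d.1.2, d.2⟩
      invFun := fun x => ⟨⟨x, x.2.1⟩, x.2.2⟩
      left_inv := fun d => rfl
      right_inv := fun x => rfl
      map_mul' := fun d e => rfl }
  exact isCyclic_of_surjective e e.surjective

end Cfg

end Cfsg.Agent.Invol.CyclicZ
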