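import Cfsg.Agent.Lib.Invol.CyclicZ.Shape
import Cfsg.Agent.Lib.Invol.GW.Consumers.Socle
import Cfsg.Agent.Lib.Invol.GW.Dihedral.ThreeDoneFinal
import Cfsg.Agent.Lib.Invol.GW.Consumers.CommutingOuter
import Cfsg.Agent.Lib.Invol.Core2.RankTwoPSL
import Cfsg.Agent.Lib.Classical.MatrixOrders
import Cfsg.Agent.S2119
import Cfsg.Agent.S2262
import Cfsg.Agent.S5892

/-!
# The primitive case: the group is `PGL₂(p)`
-/

set_option autoImplicit false
set_option linter.style.haveILetI false
set_option linter.unusedSectionVars false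

namespace Cfsg.Agent.Invol.CyclicZ

open MulAction Subgroup

universe u

/-- The conclusion. -/
def Target (G : Type u) [Group G] : Prop :=
  ∃ (F : Type) (_ : Field F) (_ : Fintype F) (p : ℕ), p.Prime ∧ 3 < p ∧ Fintype.card F = p ∧
    Nonempty (G ≃* Matrix.ProjGenLinGroup (Fin 2) F)

theorem not_zgroup_of_four {X : Type*} [Group X] [Finite X] {Y : Type*} [Group Y] (e : X ≃* Y) {u v : Y}
    (hu : orderOf u = 2) (hv : orderOf v = 2) (huv : u * v = v * u) (hne : u ≠ v) : ¬ IsZGroup X := by
  intro hX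
  haveI := hX
  haveI : Fact (Nat.Prime 2) := ⟨Nat.prime_two⟩
  have hp : IsPGroup 2 ↥(Subgroup.closure ({e.symm u, e.symm v} : Set X)) := by
    refine Invol.isPGroup_closure_pair (a := 1) (by rw [MulEquiv.orderOf_eq, hu]) (by rw [MulEquiv.orderOf_eq, hv]) ?_
    rw [← map_mul, MulEquiv.orderOf_eq, pow_one]
    refine orderOf_eq_prime ?_ fun h1 => hne ?_
    · rw [pow_two, show u * v * (u * v) = u * (v * u) * v by group, ← huv, show u * (u * v) * v = u * u * (v * v) by group,
        Invol.mul_self_of_orderOf_two hu, Invol.mul_self_of_orderOf_two hv, one_mul]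
    · rw [eq_inv_of_mul_eq_one_left h1, Invol.inv_of_orderOf_two hv]
  obtain ⟨P, hP⟩ := hp.exists_le_sylow
  refine hne (e.symm.injective (invol_unique (D := (P : Subgroup X)) inferInstance (hP (subset_closure (by simp)))
    (hP (subset_closure (by simp))) ?_ ?_ ?_ ?_))
  · rw [← map_mul, Invol.mul_self_of_orderOf_two hu, map_one]
  · rw [MulEquiv.map_ne_one_iff]; exact Invol.ne_one_of_orderOf_two hu
  · rw [← map_mul, Invol.mul_self_of_orderOf_two hv, map_one]
  · rw [MulEquiv.map_ne_one_iff]; exact Invol.ne_one_of_orderOf_two hv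

theorem not_zgroup_alt_five {X : Type*} [Group X] [Finite X] (e : X ≃* alternatingGroup (Fin 5)) : ¬ IsZGroup X :=
  not_zgroup_of_four e (u := ⟨Equiv.swap 0 1 * Equiv.swap 2 3, Equiv.Perm.mem_alternatingGroup.2 (by decide)⟩)
    (v := ⟨Equiv.swap 0 2 * Equiv.swap 1 3, Equiv.Perm.mem_alternatingGroup.2 (by decide)⟩) (orderOf_eq_prime (by decide +kernel) (by decide +kernel))
    (orderOf_eq_prime (by decide +kernel) (by decide +kernel)) (by decide +kernel) (by decide +kernel)

theorem not_zgroup_alt_four {X : Type*} [Group X] [Finite X] (e : X ≃* alternatingGroup (Fin 4)) : ¬ IsZGroup X :=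
  not_zgroup_of_four e (u := ⟨Equiv.swap 0 1 * Equiv.swap 2 3, Equiv.Perm.mem_alternatingGroup.2 (by decide)⟩)
    (v := ⟨Equiv.swap 0 2 * Equiv.swap 1 3, Equiv.Perm.mem_alternatingGroup.2 (by decide)⟩) (orderOf_eq_prime (by decide +kernel) (by decide +kernel))
    (orderOf_eq_prime (by decide +kernel) (by decide +kernel)) (by decide +kernel) (by decide +kernel)

theorem not_zgroup_perm_four {X : Type*} [Group X] [Finite X] (e : X ≃* Equiv.Perm (Fin 4)) : ¬ IsZGroup X :=
  not_zgroup_of_four e (u := Equiv.swap 0 1) (v := Equiv.swap 2 3)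
    (orderOf_eq_prime (by decide +kernel) (by decide +kernel))
    (orderOf_eq_prime (by decide +kernel) (by decide +kernel)) (by decide +kernel) (by decide +kernel)

/-- The symmetric group on seven points has no element of order eight. -/
theorem perm_seven_order (x : Equiv.Perm (Fin 7)) : orderOf x ≠ 8 := by
  intro h
  have h4 : x ^ 4 = 1 := by
    rw [← orderOf_dvd_iff_pow_eq_one, ← Equiv.Perm.lcm_cycleType]
    refine Multiset.lcm_dvd.2 fun b hb => ?_
    have h1 : b ∣ 8 := h ▸ Equiv.Perm.lcm_cycleType x ▸ Multiset.dvd_lcm hb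
    have h2 : b ≤ x.support.card := Equiv.Perm.le_card_support_of_mem_cycleType hb
    have h3 : x.support.card ≤ 7 := (Finset.card_le_univ _).trans (by simp)
    have hb7 : b ≤ 7 := h2.trans h3
    interval_cases b <;> omega
  rw [← orderOf_dvd_iff_pow_eq_one, h] at h4
  norm_num at h4

namespace Cfg

variable {G : Type u} [Group G] [Finite G] {Ω : Type*} [MulAction G Ω] [Finite Ω] {A : Subgroup G} {α : Ω}
  (h : Cfg A α)
include h

/-- A normal subgroup with trivial centraliser consists of even permutations. -/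
theorem le_ker {L : Subgroup G} [IsSimpleGroup ↥L] (hCL : centralizer (L : Set G) = ⊥) : L ≤ (sgn G Ω).ker := by
  have hn : ((sgn G Ω).comp L.subtype).ker.Normal := inferInstance
  rcases hn.eq_bot_or_eq_top with h1 | h1
  · exfalso
    have hinj : Function.Injective ((sgn G Ω).comp L.subtype) := (MonoidHom.ker_eq_bot_iff _).1 h1
    obtain ⟨⟨a, ha⟩, ha1⟩ := exists_ne (1 : ↥L)
    have : a ∈ centralizer (L : Set G) := mem_centralizer_iff.2 fun b hb =>
      congrArg Subtype.val (hinj ((map_mul _ _ _).trans ((mul_comm _ _).trans (map_mul _ _ _).symm)) : (⟨b, hb⟩ : ↥L) * ⟨a, ha⟩ = ⟨a, ha⟩ * ⟨b, hb⟩)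
    rw [hCL, mem_bot] at this
    exact ha1 (Subtype.ext this)
  · intro g hg
    exact MonoidHom.mem_ker.1 (h1.ge (mem_top (⟨g, hg⟩ : ↥L)))

/-- The primitive case. -/
theorem linear (hR : NoRad G) (hns : ¬ Group.IsSolvable G) [IsPreprimitive G Ω] : Target G := by
  classical
  haveI : Fact (Nat.Prime 2) := ⟨Nat.prime_two⟩
  haveI := h.zgrp
  haveI := h.cyc
  haveI := h.pretransitive
  haveI : Nonempty Ω := ⟨α⟩
  obtain ⟨P, m, ⟨eP⟩⟩ := h.exists_dihedral hR hns
  obtain ⟨L, hLn, hmodel, hCL⟩ := GW.exists_socle GW.Dihedral.gwStatement_holds hR.oddCore hns P eP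
  haveI := hLn
  haveI := GW.isSimple_of_model hmodel
  set B := stabilizer G α with hB
  obtain ⟨⟨g, hg⟩, hgen⟩ := h.cyc.exists_generator
  have hgord : orderOf g = Nat.card Ω := by
    rw [← h.card_A, ← orderOf_mk g hg]
    exact orderOf_eq_card_of_forall_mem_zpowers hgen
  have hgs : sgn G Ω g = -1 := sgn_of_transitive (h.even hns).1 fun x x' => by
    obtain ⟨b, hb, e⟩ := h.trans x x'
    obtain ⟨i, hi⟩ := hgen ⟨b, hb⟩
    exact ⟨i, by rw [show g ^ i = b from congrArg Subtype.val hi, e]⟩
  have hLker := h.le_ker hCL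
  have hgL : g ∉ L := fun e => by
    have := MonoidHom.mem_ker.1 (hLker e)
    rw [hgs] at this
    exact absurd this (by decide)
  rcases hmodel with ⟨F, hF, hFf, hodd, h3, ⟨f⟩⟩ | ⟨⟨f⟩⟩
  swap
  · -- the alternating group of degree seven
    exfalso
    let c : Equiv.Perm (Fin 7) ≃* MulAut (alternatingGroup (Fin 7)) :=
      MulEquiv.ofBijective MulAut.conjNormal (S2119.result 7 (by norm_num) (by norm_num))
    let θ : G →* Equiv.Perm (Fin 7) :=
      c.symm.toMonoidHom.comp ((MulAut.congr f).toMonoidHom.comp (MulAut.conjNormal (H := L)))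
    have hθinj : Function.Injective θ := by
      refine (c.symm.injective.comp ((MulAut.congr f).injective.comp ?_))
      rw [← MonoidHom.ker_eq_bot_iff, eq_bot_iff]
      intro x hx
      rw [← hCL]
      refine mem_centralizer_iff.2 fun l hl => ?_
      have := congrArg Subtype.val (DFunLike.congr_fun (MonoidHom.mem_ker.1 hx) ⟨l, hl⟩)
      rw [MulAut.conjNormal_apply] at this
      exact (mul_inv_eq_iff_eq_mul.1 this).symm
    have hcard : Nat.card G = 5040 := by
      have h1 : Nat.card G ≤ 5040 := by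
        refine (Nat.card_le_card_of_injective θ hθinj).trans ?_
        rw [Nat.card_eq_fintype_card, Fintype.card_perm, Fintype.card_fin]; rfl
      have h2 : Nat.card ↥L = 2520 := by
        rw [Nat.card_congr f.toEquiv, nat_card_alternatingGroup]
        simp only [Nat.card_eq_fintype_card, Fintype.card_fin]
        decide
      have h3 := L.card_mul_index
      have h4 : L.index ≠ 1 := fun e => hgL ((index_eq_one.1 e).ge (mem_top g))
      have h5 : L.index ≠ 0 := index_ne_zero_of_finite
      rw [h2] at h3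
      rcases Nat.lt_or_ge L.index 3 with h6 | h6
      · rw [← h3, show L.index = 2 by omega]
      · have := Nat.mul_le_mul_left 2520 h6
        omega
    have hP16 : Nat.card ↥(P : Subgroup G) = 2 ^ 4 := by
      obtain ⟨b, hb⟩ := IsPGroup.iff_card.1 P.isPGroup'
      rw [hb]
      refine two_pow_part (u := (P : Subgroup G).index) (v := 315)
        (Nat.odd_iff.2 (Nat.two_dvd_ne_zero.1 P.not_dvd_index)) (by decide) ?_
      rw [← hb, card_mul_index, hcard]
      norm_num
    rw [Nat.card_congr eP.toEquiv, DihedralGroup.nat_card] at hP16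
    have hm : 2 ^ m = 8 := by omega
    refine perm_seven_order (θ (eP.symm (DihedralGroup.r 1) : G)) ?_
    rw [orderOf_injective θ hθinj, orderOf_coe, MulEquiv.orderOf_eq, DihedralGroup.orderOf_r_one, hm]
  -- the projective linear group
  obtain ⟨p, hchar⟩ := CharP.exists F
  obtain ⟨⟨e, he⟩, hprime, hpe⟩ := FiniteField.card F p
  simp only [PNat.mk_coe] at hpe
  haveI : Fact p.Prime := ⟨hprime⟩
  set q := Fintype.card F with hq
  have h5 : 5 ≤ q := by obtain ⟨k, hk⟩ := hodd; omega
  let Φ : G →* MulAut (Matrix.ProjectiveSpecialLinearGroup (Fin 2) F) :=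
    (MulAut.congr f).toMonoidHom.comp (MulAut.conjNormal (H := L))
  have hΦinj : Function.Injective Φ := by
    refine (MulAut.congr f).injective.comp ?_
    rw [← MonoidHom.ker_eq_bot_iff, eq_bot_iff]
    intro x hx
    rw [← hCL]
    refine mem_centralizer_iff.2 fun l hl => ?_
    have := congrArg Subtype.val (DFunLike.congr_fun (MonoidHom.mem_ker.1 hx) ⟨l, hl⟩)
    rw [MulAut.conjNormal_apply] at this
    exact (mul_inv_eq_iff_eq_mul.1 this).symm
  have hn : Nat.card Ω ≤ q + 1 := by
    have h1 := (S2262.result (F := F) 2 le_rfl (fun _ => by omega) (by omega) (by omega)).1 (Φ g)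
    rw [orderOf_injective Φ hΦinj, hgord, ← hq] at h1
    refine Nat.le_of_mul_le_mul_left (h1.trans ?_) (show 0 < q - 1 by omega)
    rw [show (q - 1) * (q + 1) = q ^ 2 - 1 by rw [mul_comm, ← Nat.sq_sub_sq, one_pow]]
  -- the stabiliser inside the socle
  let H : Subgroup (Matrix.ProjectiveSpecialLinearGroup (Fin 2) F) := (B.subgroupOf L).map f.toMonoidHom
  have hLB : L ⊔ B = ⊤ := by
    haveI : Nontrivial Ω := Finite.one_lt_card_iff_nontrivial.1 (by have := h.three_le hns; omega)
    rcases (IsPreprimitive.isCoatom_stabilizer_of_isPreprimitive (G := G) α).le_iff.1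
      (le_sup_right : B ≤ L ⊔ B) with h1 | h1
    · exact h1
    · exfalso
      have hLB : L ≤ B := le_sup_left.trans h1.le
      have hbot : L = ⊥ := eq_bot_iff.2 fun l hl => mem_bot.2 (h.faithful l fun x => by
        obtain ⟨a, -, rfl⟩ := h.trans α x
        have h2 : (a⁻¹ * l * a) • α = α := hLB (by simpa using hLn.conj_mem l hl a⁻¹)
        rwa [mul_smul, mul_smul, inv_smul_eq_iff] at h2)
      obtain ⟨⟨a, ha⟩, ha1⟩ := exists_ne (1 : ↥L)
      exact ha1 (Subtype.ext (mem_bot.1 (hbot ▸ ha)))
  have hHcard : Nat.card Ω * Nat.card H = Nat.card (Matrix.ProjectiveSpecialLinearGroup (Fin 2) F) := by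
    rw [Subgroup.card_map_of_injective (f := f.toMonoidHom) f.injective, ← Nat.card_congr f.toEquiv]
    have h1 : B.relIndex L = Nat.card Ω := by
      rw [← index_stabilizer_of_transitive G α]
      have h2 : L.relIndex B = L.index := by rw [← relIndex_top_right, ← hLB, relIndex_sup_left]
      have h3 : L.relIndex B * Nat.card ↥(L ⊓ B : Subgroup G) = Nat.card ↥B := by
        rw [← inf_relIndex_right, ← relIndex_bot_left, ← relIndex_bot_left, mul_comm]
        exact relIndex_mul_relIndex ⊥ (L ⊓ B) B bot_le inf_le_right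
      have h4 : B.relIndex L * Nat.card ↥(B ⊓ L : Subgroup G) = Nat.card ↥L := by
        rw [← inf_relIndex_right, ← relIndex_bot_left, ← relIndex_bot_left, mul_comm]
        exact relIndex_mul_relIndex ⊥ (B ⊓ L) L bot_le inf_le_right
      have h5 := L.card_mul_index
      have h6 := B.card_mul_index
      rw [inf_comm] at h4
      rw [h2] at h3
      refine Nat.eq_of_mul_eq_mul_left (Nat.card_pos (α := ↥B)) ?_
      rw [h6, ← h5, ← h4, ← h3]
      ring
    rw [← h1, mul_comm]
    exact (B.subgroupOf L).card_mul_index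
  haveI hHz : IsZGroup H := by
    haveI : IsZGroup ↥(B.subgroupOf L) :=
      IsZGroup.of_injective (f := ((L.subtype.comp (B.subgroupOf L).subtype).codRestrict B fun u => u.2))
        fun u v huv => Subtype.ext (Subtype.ext (congrArg Subtype.val huv :))
    exact IsZGroup.of_injective (f := ((B.subgroupOf L).equivMapOfInjective f.toMonoidHom f.injective).symm.toMonoidHom)
      (MulEquiv.injective _)
  have hPSL : 2 * Nat.card (Matrix.ProjectiveSpecialLinearGroup (Fin 2) F) = q * ((q - 1) * (q + 1)) :=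
    GW.card_PSLTwo hodd
  have hHge : q * (q - 1) ≤ 2 * Nat.card H := by
    refine Nat.le_of_mul_le_mul_right (c := q + 1) ?_ (by omega)
    rw [mul_assoc, ← hPSL, ← hHcard, mul_comm (Nat.card Ω), ← mul_assoc]
    exact Nat.mul_le_mul_left _ hn
  have hHtop : H ≠ ⊤ := fun e => by
    have h1 := h.three_le hns
    rw [e, Subgroup.card_top] at hHcard
    have hpos : 0 < Nat.card (Matrix.ProjectiveSpecialLinearGroup (Fin 2) F) := Nat.card_pos
    have := Nat.mul_le_mul_right (Nat.card (Matrix.ProjectiveSpecialLinearGroup (Fin 2) F)) h1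
    omega
  obtain ⟨M, hM, hHM⟩ := (eq_top_or_exists_le_coatom H).resolve_left hHtop
  have hHle : Nat.card H ≤ Nat.card M := card_le_of_le hHM
  have hHdvd : Nat.card H ∣ Nat.card M := card_dvd_of_le hHM
  have hpow2 : ∀ a b : ℕ, 3 ≤ a → b = a * (a - 1) * (a + 1) → a ^ 2 * (a ^ 2 - 1) ≤ 2 * b → False := by
    intro a b ha hb hle
    rw [hb, show a ^ 2 - 1 = (a - 1) * (a + 1) by rw [mul_comm, ← Nat.sq_sub_sq, one_pow],
      show a ^ 2 * ((a - 1) * (a + 1)) = a * (a * (a - 1) * (a + 1)) by ring] at hle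
    have hpos : 0 < a * (a - 1) * (a + 1) := by
      refine Nat.mul_pos (Nat.mul_pos (by omega) (by omega)) (by omega)
    have := Nat.mul_le_mul_right (a * (a - 1) * (a + 1)) ha
    omega
  have hnotM : ∀ {Y : Subgroup (Matrix.ProjectiveSpecialLinearGroup (Fin 2) F)}, H ≤ Y → Nat.card Y ≤ Nat.card H →
      IsZGroup ↥Y := fun {Y} hle hc => (eq_of_le_of_card_ge hle hc) ▸ hHz
  rcases S5892.result p (by rw [← hq]; exact hodd) h5 M hM with hb | ⟨hq13, k, hk, ⟨d⟩⟩ | ⟨-, -, k, hk, ⟨d⟩⟩ |
    ⟨F₀, i1, i2, hqq, ⟨d⟩⟩ | ⟨F₀, i1, i2, r, hr, hrodd, hqq, ⟨d⟩⟩ | ⟨hmod, -, ⟨d⟩⟩ | ⟨hqp, hmod, hmod', ⟨d⟩⟩ |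
    ⟨hqp, hmod, ⟨d⟩⟩
  · -- the stabiliser of a point of the line: the field is prime
    have hHM' : H = M := eq_of_le_of_card_ge hHM (by rw [← hq] at hb; omega)
    haveI : IsZGroup ↥M := hHM' ▸ hHz
    have hqcard : q = p ^ e := hpe
    have he1 : e = 1 := by
      by_contra hne
      obtain ⟨Q⟩ : Nonempty (Sylow p ↥M) := inferInstance
      have hpq : (q - 1).Coprime p := by
        refine (Nat.Prime.coprime_iff_not_dvd hprime).2 (fun hd => ?_) |>.symm
        have h1 : p ∣ q := hqcard ▸ dvd_pow_self p (by omega)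
        exact hprime.one_lt.ne' (Nat.dvd_one.1 ((Nat.dvd_add_right hd).1 (by rwa [Nat.sub_add_cancel (by omega)])))
      let S : Sylow p (Matrix.ProjectiveSpecialLinearGroup (Fin 2) F) := (Q.isPGroup'.map M.subtype).toSylow (by
        rw [index_map_subtype, hprime.dvd_mul]
        refine fun e' => e'.elim Q.not_dvd_index fun h1 => ?_
        have h2 : M.index = q + 1 := by
          have h3 := M.card_mul_index
          refine Nat.eq_of_mul_eq_mul_left (show 0 < 2 * Nat.card M from Nat.mul_pos two_pos Nat.card_pos) ?_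
          rw [mul_assoc 2, h3, hPSL, hb, ← hq]; ring
        rw [h2] at h1
        have h4 : p ∣ q := hqcard ▸ dvd_pow_self p (by omega)
        exact hprime.one_lt.ne' (Nat.dvd_one.1 ((Nat.dvd_add_right h4).1 h1)))
      haveI hScyc : IsCyclic ↥(S : Subgroup (Matrix.ProjectiveSpecialLinearGroup (Fin 2) F)) :=
        ((Q : Subgroup ↥M).equivMapOfInjective M.subtype M.subtype_injective).isCyclic.1 inferInstance
      let U : Multiplicative F →* Matrix.ProjectiveSpecialLinearGroup (Fin 2) F :=
        MonoidHom.mk' (fun t => Classical.slToPSL 2 F (Fus.PSLTwo.mk2 1 t.toAdd 0 1 (by ring))) fun s t => by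
          rw [← map_mul]
          refine congrArg _ (Subtype.ext ?_)
          rw [Matrix.SpecialLinearGroup.coe_mul]
          ext i j
          fin_cases i <;> fin_cases j <;>
            simp [Fus.PSLTwo.mk2, Matrix.mul_apply, Fin.sum_univ_two, add_comm]
      have hUinj : Function.Injective U := by
        rw [injective_iff_map_eq_one]
        intro t ht
        obtain ⟨c, hc⟩ := (Classical.slToPSL_eq_one_iff _).1 ht
        have h01 := congrFun (congrFun hc 0) 1
        simp [Fus.PSLTwo.mk2, Matrix.scalar] at h01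
        exact h01
      have hUp : IsPGroup p (Multiplicative F) := IsPGroup.of_card (n := e) (by
        rw [Nat.card_congr Multiplicative.toAdd, Nat.card_eq_fintype_card, ← hq, hqcard])
      obtain ⟨S', hS'⟩ := (IsPGroup.of_surjective hUp U.rangeRestrict U.rangeRestrict_surjective).exists_le_sylow
      haveI : IsCyclic ↥(S' : Subgroup (Matrix.ProjectiveSpecialLinearGroup (Fin 2) F)) := isCyclic_of_surjective _ (Sylow.equiv S S').surjective
      haveI : IsCyclic (Multiplicative F) := isCyclic_of_injective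
        ((inclusion hS').comp U.rangeRestrict) ((inclusion_injective hS').comp
          (fun a b hab => hUinj (congrArg Subtype.val hab)))
      obtain ⟨t, ht⟩ := IsCyclic.exists_generator (α := Multiplicative F)
      have hcardF : orderOf t = q := by
        rw [orderOf_eq_card_of_forall_mem_zpowers ht, Nat.card_congr Multiplicative.toAdd, Nat.card_eq_fintype_card]
      have htp : t ^ p = 1 := by
        apply Multiplicative.toAdd.injective
        rw [toAdd_pow, toAdd_one, nsmul_eq_mul, CharP.cast_eq_zero, zero_mul]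
      have h1 := Nat.le_of_dvd hprime.pos (orderOf_dvd_of_pow_eq_one htp)
      rw [hcardF, hqcard] at h1
      have h2 : p ^ 1 < p ^ e := Nat.pow_lt_pow_right hprime.one_lt (by omega)
      rw [pow_one] at h2
      omega
    have hqp : q = p := by rw [hqcard, he1, pow_one]
    have hsurj : Function.Surjective (GW.pglAut F) := fun a =>
      Core2.RankTwo.pglAut_surjective_of_prime (by rw [← hq, hqp]; exact hprime) a
    let ψ : Matrix.ProjGenLinGroup (Fin 2) F ≃* MulAut (Matrix.ProjectiveSpecialLinearGroup (Fin 2) F) :=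
      MulEquiv.ofBijective (GW.pglAut F) ⟨GW.pglAut_injective, hsurj⟩
    let θ : G →* Matrix.ProjGenLinGroup (Fin 2) F := ψ.symm.toMonoidHom.comp Φ
    have hθinj : Function.Injective θ := ψ.symm.injective.comp hΦinj
    haveI : Finite (Matrix.ProjGenLinGroup (Fin 2) F) := Dickson.finite_pgl
    have hcardG : Nat.card (Matrix.ProjGenLinGroup (Fin 2) F) ≤ Nat.card G := by
      have h1 := L.card_mul_index
      have h2 : 2 ≤ L.index := by
        have h3 : L.index ≠ 0 := index_ne_zero_of_finite
        have h4 : L.index ≠ 1 := fun e' => hgL ((index_eq_one.1 e').ge (mem_top g))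
        omega
      rw [Core2.RankTwo.card_pgl, ← hq, ← hPSL, ← h1, Nat.card_congr f.toEquiv, mul_comm 2]
      exact Nat.mul_le_mul_left _ h2
    exact ⟨F, hF, hFf, p, hprime, by omega, hqp, ⟨MulEquiv.ofBijective θ
      ((Nat.bijective_iff_injective_and_card θ).2
        ⟨hθinj, le_antisymm (Nat.card_le_card_of_injective θ hθinj) hcardG⟩)⟩⟩
  all_goals exfalso
  · rw [Nat.card_congr d.toEquiv, DihedralGroup.nat_card, hk, ← hq] at hHle
    have h1 := Nat.mul_le_mul_right (q - 1) hq13
    rw [← hq] at h1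
    omega
  · rw [Nat.card_congr d.toEquiv, DihedralGroup.nat_card, hk, ← hq] at hHle
    have h1 := Nat.mul_le_mul_right (q - 1) h5
    omega
  · rw [← hq] at hqq
    haveI : Finite (Matrix.ProjGenLinGroup (Fin 2) F₀) := Dickson.finite_pgl
    rw [Nat.card_congr d.toEquiv, Core2.RankTwo.card_pgl] at hHle
    have h3' : 3 ≤ Fintype.card F₀ := by
      by_contra hlt
      have := Nat.pow_le_pow_left (show Fintype.card F₀ ≤ 2 by omega) 2
      omega
    refine hpow2 _ _ h3' (mul_assoc _ _ _).symm ?_
    rw [← hqq]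
    omega
  · rw [← hq] at hqq
    haveI : Finite (Matrix.ProjGenLinGroup (Fin 2) F₀) := Dickson.finite_pgl
    have hM' : Nat.card M ≤ Fintype.card F₀ * ((Fintype.card F₀ - 1) * (Fintype.card F₀ + 1)) := by
      rw [Nat.card_congr d.toEquiv, ← Core2.RankTwo.card_pgl]
      exact Nat.card_le_card_of_injective _
        (Matrix.ProjectiveSpecialLinearGroup.toPGL_injective (n := Fin 2) (R := F₀))
    have h3' : 3 ≤ Fintype.card F₀ := by
      by_contra hlt
      have h1 : Even q ∨ q ≤ 1 := by
        rcases (show Fintype.card F₀ = 0 ∨ Fintype.card F₀ = 1 ∨ Fintype.card F₀ = 2 by omega) with e' | e' | e' <;>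
          rw [hqq, e']
        · exact Or.inr (by rw [zero_pow hr.ne_zero]; norm_num)
        · exact Or.inr (by rw [one_pow])
        · exact Or.inl ((Nat.even_pow).2 ⟨even_two, hr.ne_zero⟩)
      rcases h1 with h1 | h1
      · exact (Nat.not_even_iff_odd.2 hodd) h1
      · omega
    have hr3 : Fintype.card F₀ ^ 2 ≤ q := hqq ▸ Nat.pow_le_pow_right (by omega) hr.two_le
    refine hpow2 _ _ h3' (mul_assoc _ _ _).symm ?_
    have h1 : Fintype.card F₀ ^ 2 * (Fintype.card F₀ ^ 2 - 1) ≤ q * (q - 1) :=
      Nat.mul_le_mul hr3 (Nat.sub_le_sub_right hr3 1)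
    omega
  · have hc : Nat.card M = 60 := by
      rw [Nat.card_congr d.toEquiv, nat_card_alternatingGroup]
      simp only [Nat.card_eq_fintype_card, Fintype.card_fin]
      decide
    refine not_zgroup_alt_five d (hnotM hHM ?_)
    rw [hc] at hHle hHdvd ⊢
    rw [← hq] at hmod
    have hq11 : q = 9 ∨ q = 11 := by
      by_contra hne
      have h1 : 19 ≤ q := by omega
      have := Nat.mul_le_mul h1 (show 18 ≤ q - 1 by omega)
      omega
    have h30 : 30 < Nat.card H := by rcases hq11 with e' | e' <;> rw [e'] at hHge <;> omega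
    obtain ⟨c, hc'⟩ := hHdvd
    rcases (show c = 0 ∨ c = 1 ∨ 2 ≤ c by omega) with rfl | rfl | h2
    · omega
    · omega
    · have := Nat.mul_le_mul (le_refl (Nat.card H)) h2
      omega
  · have hc : Nat.card M = 12 := by
      rw [Nat.card_congr d.toEquiv, nat_card_alternatingGroup]
      simp only [Nat.card_eq_fintype_card, Fintype.card_fin]
      decide
    refine not_zgroup_alt_four d (hnotM hHM ?_)
    rw [hc] at hHle hHdvd ⊢
    have hq5 : q = 5 := by
      by_contra hne
      have h1 : 6 ≤ q := by omega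
      have := Nat.mul_le_mul h1 (show 5 ≤ q - 1 by omega)
      omega
    obtain ⟨c, hc'⟩ := hHdvd
    rw [hq5] at hHge
    rcases (show c = 0 ∨ c = 1 ∨ 2 ≤ c by omega) with rfl | rfl | h2
    · omega
    · omega
    · have := Nat.mul_le_mul (le_refl (Nat.card H)) h2
      omega
  · have hc : Nat.card M = 24 := by
      rw [Nat.card_congr d.toEquiv, Nat.card_eq_fintype_card, Fintype.card_perm, Fintype.card_fin]; rfl
    refine not_zgroup_perm_four d (hnotM hHM ?_)
    rw [hc] at hHle hHdvd ⊢
    rw [← hq] at hqp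
    have hq7 : q = 7 := by
      by_contra hne
      have h1 : 8 ≤ q := by omega
      have := Nat.mul_le_mul h1 (show 7 ≤ q - 1 by omega)
      omega
    obtain ⟨c, hc'⟩ := hHdvd
    rcases (show c = 0 ∨ c = 1 ∨ 2 ≤ c by omega) with rfl | rfl | h2
    · omega
    · omega
    · have := Nat.mul_le_mul (le_refl (Nat.card H)) h2
      rw [hq7] at hHge
      omega

end Cfg

end Cfsg.Agent.Invol.CyclicZ
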