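import Cfsg.Agent.Lib.Invol.CyclicZ.Linear

/-!
# Products of a cyclic group and a Z-group

If such a group has trivial solvable radical it has a unique minimal normal subgroup; a maximal subgroup over the
Z-group then is the Z-group itself, so the group is primitive on its cosets, and it is `PGL₂(p)`.
-/

set_option autoImplicit false
set_option linter.style.haveILetI false
set_option linter.unusedSectionVars false

namespace Cfsg.Agent.Invol.CyclicZ

open MulAction Subgroup
open scoped commutatorElement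

universe u

/-- A product of a cyclic subgroup and a Z-group. -/
def Factor (G : Type u) [Group G] : Prop :=
  ∃ A B : Subgroup G, IsCyclic ↥A ∧ IsZGroup ↥B ∧ ∀ g : G, ∃ a ∈ A, ∃ b ∈ B, g = a * b

theorem Factor.map {G : Type u} [Group G] [Finite G] {Q : Type u} [Group Q] [Finite Q] (hF : Factor G) (π : G →* Q)
    (hπ : Function.Surjective π) : Factor Q := by
  obtain ⟨A, B, hA, hB, hAB⟩ := hF
  refine ⟨A.map π, B.map π, isCyclic_of_surjective (π.subgroupMap A) (π.subgroupMap_surjective A),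
    IsZGroup.of_surjective (π.subgroupMap_surjective B), fun q => ?_⟩
  obtain ⟨g, rfl⟩ := hπ q
  obtain ⟨a, ha, b, hb, rfl⟩ := hAB g
  exact ⟨π a, mem_map_of_mem π ha, π b, mem_map_of_mem π hb, map_mul π a b⟩

/-- The product of two solvable normal subgroups, as a preimage. -/
theorem solvable_comap {G : Type u} [Group G] {R : Subgroup G} [R.Normal] [Group.IsSolvable ↥R]
    (N : Subgroup (G ⧸ R)) [Group.IsSolvable ↥N] : Group.IsSolvable ↥(N.comap (QuotientGroup.mk' R)) := by
  let f : ↥(N.comap (QuotientGroup.mk' R)) →* ↥N := (QuotientGroup.mk' R).subgroupComap N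
  have hle : R ≤ N.comap (QuotientGroup.mk' R) := fun x hx => mem_comap.2 (by
    rw [QuotientGroup.mk'_apply, (QuotientGroup.eq_one_iff x).2 hx]
    exact one_mem N)
  refine Group.isSolvable_of_ker_le_range (inclusion hle) f fun x hx => ⟨⟨x, ?_⟩, Subtype.ext rfl⟩
  exact (QuotientGroup.eq_one_iff (x : G)).1 (congrArg Subtype.val (MonoidHom.mem_ker.1 hx))

/-- The solvable radical. -/
theorem exists_radical (G : Type u) [Group G] [Finite G] :
    ∃ R : Subgroup G, R.Normal ∧ Group.IsSolvable ↥R ∧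
      ∀ N : Subgroup G, N.Normal → Group.IsSolvable ↥N → N ≤ R := by
  haveI := Fintype.ofFinite (Subgroup G)
  obtain ⟨R, ⟨hRn, hRs⟩, hmax⟩ := Set.Finite.exists_maximal (s := {R : Subgroup G | R.Normal ∧ Group.IsSolvable ↥R})
    (Set.toFinite _) ⟨⊥, inferInstance, inferInstance⟩
  refine ⟨R, hRn, hRs, fun N hN hNs => ?_⟩
  haveI := hN
  haveI := hNs
  haveI := hRs
  haveI := hRn
  set T := (N.map (QuotientGroup.mk' R)).comap (QuotientGroup.mk' R)
  haveI : (N.map (QuotientGroup.mk' R)).Normal := hN.map _ (QuotientGroup.mk'_surjective R)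
  haveI : Group.IsSolvable ↥(N.map (QuotientGroup.mk' R)) :=
    Group.isSolvable_of_surjective ((QuotientGroup.mk' R).subgroupMap_surjective N)
  have hT : T.Normal ∧ Group.IsSolvable ↥T := ⟨inferInstance, solvable_comap _⟩
  have hRT : R ≤ T := fun x hx => mem_comap.2 <| by
    rw [QuotientGroup.mk'_apply, (QuotientGroup.eq_one_iff x).2 hx]
    exact one_mem _
  exact (le_comap_map _ N).trans (hmax hT hRT)

/-- The quotient by the radical has trivial radical. -/
theorem noRad_quotient {G : Type u} [Group G] [Finite G] {R : Subgroup G} [R.Normal] [Group.IsSolvable ↥R]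
    (hmax : ∀ N : Subgroup G, N.Normal → Group.IsSolvable ↥N → N ≤ R) : NoRad (G ⧸ R) := by
  intro N hN hNs
  haveI := hN
  haveI := hNs
  have h1 := Subgroup.map_mono (f := QuotientGroup.mk' R) (hmax _ inferInstance (solvable_comap N))
  rwa [map_comap_eq_self_of_surjective (QuotientGroup.mk'_surjective R), QuotientGroup.map_mk'_self, le_bot_iff] at h1

theorem nonsolvable_quotient {G : Type u} [Group G] [Finite G] (hns : ¬ Group.IsSolvable G) (R : Subgroup G)
    [R.Normal] [Group.IsSolvable ↥R] : ¬ Group.IsSolvable (G ⧸ R) := fun hs =>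
  haveI := hs
  hns (Group.isSolvable_of_ker_le_range R.subtype (QuotientGroup.mk' R) (by simp))

/-- A normal subgroup of a group with trivial radical has trivial radical. -/
theorem NoRad.of_normal {G : Type u} [Group G] [Finite G] (hR : NoRad G) (K : Subgroup G) [K.Normal] :
    NoRad ↥K := by
  intro N hN hNs
  obtain ⟨R, hRn, hRs, hmax⟩ := exists_radical ↥K
  haveI := hRs
  have hbot : R.map K.subtype = ⊥ := by
    refine hR _ ⟨?_⟩ (Group.isSolvable_of_surjective (K.subtype.subgroupMap_surjective R))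
    rintro _ ⟨x, hx, rfl⟩ g
    let σ : ↥K →* ↥K := (MulAut.conjNormal (H := K) g).toMonoidHom
    have hσ : R.map σ ≤ R := hmax _ (hRn.map σ (MulEquiv.surjective _))
      (Group.isSolvable_of_surjective (σ.subgroupMap_surjective R))
    exact ⟨σ x, hσ (mem_map_of_mem σ hx), MulAut.conjNormal_apply _ _⟩
  rw [Subgroup.map_eq_bot_iff_of_injective _ K.subtype_injective] at hbot
  exact le_bot_iff.1 (hbot ▸ hmax N hN hNs)

/-- A product with trivial radical as a transitive group. -/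
theorem cfg_of_factor {G : Type u} [Group G] [Finite G] (hR : NoRad G) {A B : Subgroup G} (hA : IsCyclic ↥A)
    (hB : IsZGroup ↥B) (hAB : ∀ g : G, ∃ a ∈ A, ∃ b ∈ B, g = a * b) :
    Cfg A ((1 : G) : G ⧸ B) ∧ stabilizer G ((1 : G) : G ⧸ B) = B := by
  haveI := hA
  haveI := hB
  have hst := MulAction.stabilizer_quotient B
  have hcore : B.normalCore = ⊥ := by
    haveI : Group.IsSolvable ↥B.normalCore := Group.isSolvable_of_isSolvable_injective (inclusion_injective (normalCore_le B))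
    exact hR _ inferInstance inferInstance
  refine ⟨⟨fun g hg => ?_, hA, ?_, fun a ha x hx => ?_, hst.symm ▸ hB⟩, hst⟩
  · have h1 : g ∈ B.normalCore := fun b => by
      have h1 := hg ((b⁻¹ : G) : G ⧸ B)
      rw [Quotient.smul_coe, smul_eq_mul, QuotientGroup.eq, mul_inv_rev, inv_inv] at h1
      have h2 := B.inv_mem h1
      simpa [mul_assoc] using h2
    rwa [hcore, mem_bot] at h1
  · intro x y
    obtain ⟨g, rfl⟩ := QuotientGroup.mk_surjective x
    obtain ⟨h, rfl⟩ := QuotientGroup.mk_surjective y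
    obtain ⟨a, ha, b, hb, rfl⟩ := hAB g
    obtain ⟨a', ha', b', hb', rfl⟩ := hAB h
    refine ⟨a' * a⁻¹, mul_mem ha' (inv_mem ha), ?_⟩
    rw [Quotient.smul_coe, smul_eq_mul, QuotientGroup.eq,
      show (a' * a⁻¹ * (a * b))⁻¹ * (a' * b') = b⁻¹ * b' by group]
    exact B.mul_mem (B.inv_mem hb) hb'
  · obtain ⟨g, rfl⟩ := QuotientGroup.mk_surjective x
    obtain ⟨a', ha', b, hb, rfl⟩ := hAB g
    rw [Quotient.smul_coe, smul_eq_mul, QuotientGroup.eq] at hx
    have hcomm : ∀ u ∈ A, ∀ v ∈ A, u * v = v * u := fun u hu v hv =>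
      congrArg Subtype.val (IsMulCommutative.is_comm.comm (⟨u, hu⟩ : ↥A) ⟨v, hv⟩)
    have haB : a⁻¹ ∈ B := by
      have h1 := B.mul_mem (B.mul_mem hb hx) (B.inv_mem hb)
      rw [show b * ((a * (a' * b))⁻¹ * (a' * b)) * b⁻¹ = (a * a')⁻¹ * a' by group, hcomm a ha a' ha',
        show (a' * a)⁻¹ * a' = a⁻¹ by group] at h1
      exact h1
    have haC : a ∈ B.normalCore := fun c => by
      obtain ⟨a₁, ha₁, b₁, hb₁, hc⟩ := hAB c⁻¹
      rw [show c = b₁⁻¹ * a₁⁻¹ by rw [← mul_inv_rev, ← hc, inv_inv]]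
      rw [show b₁⁻¹ * a₁⁻¹ * a * (b₁⁻¹ * a₁⁻¹)⁻¹ = b₁⁻¹ * (a₁⁻¹ * a * a₁) * b₁ by group,
        mul_assoc a₁⁻¹, hcomm a ha a₁ ha₁, inv_mul_cancel_left]
      exact B.mul_mem (B.mul_mem (B.inv_mem hb₁) (by simpa using B.inv_mem haB)) hb₁
    rwa [hcore, mem_bot] at haC

section PGL

variable {Q : Type u} [Group Q]

/-- The socle of `PGL₂(p)`. -/
theorem exists_socle_target (hT : Target Q) :
    ∃ (F : Type) (_ : Field F) (_ : Fintype F) (L : Subgroup Q), L.Normal ∧ L.index = 2 ∧ IsSimpleGroup ↥L ∧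
      ⁅L, L⁆ = L ∧ Nonempty (↥L ≃* Matrix.ProjectiveSpecialLinearGroup (Fin 2) F) ∧
      Nat.card (MulAut (Matrix.ProjectiveSpecialLinearGroup (Fin 2) F)) ≤ Nat.card Q := by
  obtain ⟨F, hF, hFf, p, hp, hp3, hFp, ⟨φ⟩⟩ := hT
  haveI : Finite (Matrix.ProjGenLinGroup (Fin 2) F) := Dickson.finite_pgl
  let ι := Matrix.ProjectiveSpecialLinearGroup.toPGL (n := Fin 2) (R := F)
  have hodd : Odd (Fintype.card F) := hFp ▸ hp.odd_of_ne_two (by omega)
  let L : Subgroup Q := (ι.range).comap φ.toMonoidHom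
  have hidx : L.index = 2 := by
    rw [index_comap_of_surjective _ (f := φ.toMonoidHom) φ.surjective]
    exact Core2.RankTwo.index_range_toPGL hodd
  let e : ↥L ≃* Matrix.ProjectiveSpecialLinearGroup (Fin 2) F :=
    ((φ.subgroupMap L).trans (MulEquiv.subgroupCongr
      (map_comap_eq_self_of_surjective φ.surjective _))).trans
      (MonoidHom.ofInjective Matrix.ProjectiveSpecialLinearGroup.toPGL_injective).symm
  haveI : IsSimpleGroup (Matrix.ProjectiveSpecialLinearGroup (Fin 2) F) :=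
    Classical.PSL_isSimple le_rfl fun _ => by omega
  haveI : Nontrivial ↥L := e.toEquiv.nontrivial
  haveI hsimple : IsSimpleGroup ↥L := IsSimpleGroup.isSimpleGroup_of_surjective e.symm.toMonoidHom e.symm.surjective
  refine ⟨F, hF, hFf, L, normal_of_index_eq_two hidx, hidx, hsimple, ?_, ⟨e⟩, ?_⟩
  · have h1 : commutator ↥L = ⊤ := by
      refine (inferInstance : (commutator ↥L).Normal).eq_bot_or_eq_top.resolve_left fun h0 => ?_
      have hab : ∀ a b : ↥L, a * b = b * a := fun a b => commutatorElement_eq_one_iff_mul_comm.1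
        (mem_bot.1 (h0 ▸ commutator_mem_commutator (mem_top a) (mem_top b)))
      have hP : ∀ a b : Matrix.ProjectiveSpecialLinearGroup (Fin 2) F, a * b = b * a := fun a b => by
        have := congrArg e (hab (e.symm a) (e.symm b))
        rwa [map_mul, map_mul, e.apply_symm_apply, e.apply_symm_apply] at this
      exact GW.Klein.PSL.not_commute (F := F) (hFp.symm ▸ hp.five_le_of_ne_two_of_ne_three (by omega) (by omega)) hP
    rw [← Subgroup.map_subtype_commutator, h1, ← MonoidHom.range_eq_map, range_subtype]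
  · refine (Nat.card_le_card_of_surjective (GW.pglAut F) fun a =>
      Core2.RankTwo.pglAut_surjective_of_prime (hFp.symm ▸ hp) a).trans ?_
    exact (Nat.card_congr φ.toEquiv).ge

/-- A non-trivial normal subgroup contains the socle. -/
theorem socle_le (hR : NoRad Q) {L M : Subgroup Q} [L.Normal] [IsSimpleGroup ↥L] (hidx : L.index = 2) [M.Normal]
    (hM : M ≠ ⊥) : L ≤ M := by
  rcases (inferInstance : (M.subgroupOf L).Normal).eq_bot_or_eq_top with h | h
  · exfalso
    refine hM (hR.of_comm inferInstance fun a ha b hb => commutatorElement_eq_one_iff_mul_comm.1 ?_)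
    have hL : ⁅a, b⁆ ∈ L := by
      haveI : IsCyclic (Q ⧸ L) := isCyclic_of_prime_card (p := 2) (by rw [← index_eq_card, hidx])
      have h1 : QuotientGroup.mk' L ⁅a, b⁆ = 1 := by
        rw [map_commutatorElement, commutatorElement_eq_one_iff_mul_comm]
        exact IsMulCommutative.is_comm.comm _ _
      exact (QuotientGroup.eq_one_iff _).1 h1
    have hMab : ⁅a, b⁆ ∈ M := mul_mem (mul_mem (mul_mem ha hb) (inv_mem ha)) (inv_mem hb)
    have h2 : (⟨⁅a, b⁆, hL⟩ : ↥L) ∈ (⊥ : Subgroup ↥L) := h ▸ mem_subgroupOf.2 hMab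
    exact congrArg (fun v : ↥L => (v : Q)) (mem_bot.1 h2)
  · exact subgroupOf_eq_top.1 h

end PGL

section Bound

variable {G : Type u} [Group G] [Finite G] {Q₁ Q₂ : Type u} [Group Q₁] [Group Q₂] [Finite Q₁] [Finite Q₂]

/-- The order of a subgroup with cyclic Sylow subgroups divides the lcm of the orders of two jointly injective
images. -/
theorem card_dvd_lcm (π₁ : G →* Q₁) (π₂ : G →* Q₂) (hinj : ∀ g, π₁ g = 1 → π₂ g = 1 → g = 1) (B : Subgroup G)
    [IsZGroup ↥B] : Nat.card ↥B ∣ Nat.lcm (Nat.card ↥(B.map π₁)) (Nat.card ↥(B.map π₂)) := by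
  rw [Nat.dvd_iff_prime_pow_dvd_dvd]
  intro r k hr hrk
  haveI := Fact.mk hr
  obtain ⟨P⟩ : Nonempty (Sylow r ↥B) := inferInstance
  obtain ⟨⟨y, hy⟩, hgen⟩ := (inferInstance : IsCyclic ↥(P : Subgroup ↥B)).exists_generator
  have hord : orderOf y = Nat.card ↥(P : Subgroup ↥B) := by
    rw [← orderOf_mk y hy]
    exact orderOf_eq_card_of_forall_mem_zpowers hgen
  have h1 : r ^ k ∣ orderOf y := hord ▸ P.pow_dvd_card_of_pow_dvd_card hrk
  refine h1.trans (orderOf_dvd_of_pow_eq_one (Subtype.ext (hinj _ ?_ ?_)))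
  · rw [SubmonoidClass.coe_pow, map_pow]
    refine orderOf_dvd_iff_pow_eq_one.1 ((?_ : orderOf (π₁ y) ∣ _).trans (Nat.dvd_lcm_left _ _))
    exact Subgroup.orderOf_dvd_natCard _ (mem_map_of_mem π₁ y.2)
  · rw [SubmonoidClass.coe_pow, map_pow]
    refine orderOf_dvd_iff_pow_eq_one.1 ((?_ : orderOf (π₂ y) ∣ _).trans (Nat.dvd_lcm_right _ _))
    exact Subgroup.orderOf_dvd_natCard _ (mem_map_of_mem π₂ y.2)

theorem two_mul_le_of_dvd_lcm {x a b : ℕ} (ha : Even a) (hb : Even b) (ha0 : 0 < a) (hb0 : 0 < b)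
    (h : x ∣ Nat.lcm a b) : 2 * x ≤ a * b := by
  have h2 : 2 ≤ Nat.gcd a b :=
    Nat.le_of_dvd (Nat.gcd_pos_of_pos_left b ha0) (Nat.dvd_gcd (even_iff_two_dvd.1 ha) (even_iff_two_dvd.1 hb))
  rw [← Nat.gcd_mul_lcm a b]
  exact Nat.mul_le_mul h2 (Nat.le_of_dvd (Nat.lcm_pos ha0 hb0) h)

end Bound

/-- The induction. -/
theorem target_of_noRad : ∀ (k : ℕ) (G : Type u) [Group G] [Finite G], Nat.card G = k → Factor G →
    ¬ Group.IsSolvable G → NoRad G → Target G := by
  intro k
  induction k using Nat.strong_induction_on with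
  | _ k ih =>
  intro G _ _ hk hF hns hR
  obtain ⟨A, B, hA, hB, hAB⟩ := hF
  haveI := hA
  haveI := hB
  obtain ⟨hcfg, hst⟩ := cfg_of_factor hR hA hB hAB
  -- every non-trivial normal subgroup has trivial centraliser
  have hcen : ∀ N : Subgroup G, N.Normal → N ≠ ⊥ → centralizer (N : Set G) = ⊥ := by
    intro N hN hN1
    by_contra hC1
    set C := centralizer (N : Set G) with hC
    haveI := hN
    haveI hCn : C.Normal := by rw [hC]; infer_instance
    have hNC : N ⊓ C = ⊥ := hR.of_comm inferInstance fun a ha b hb => mem_centralizer_iff.1 hb.2 a ha.1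
    have quot : ∀ K N' : Subgroup G, K.Normal → N'.Normal → N' ⊓ K = ⊥ → K ≠ ⊥ → N' ≠ ⊥ →
        ∃ (Q : Type u) (_ : Group Q) (_ : Finite Q) (π : G →* Q), Function.Surjective π ∧ K ≤ π.ker ∧
          N' ⊓ π.ker = ⊥ ∧ NoRad Q ∧ ¬ Group.IsSolvable Q ∧ Target Q := by
      intro K N' hK hN' hd hK1 hN'1
      haveI := hK
      haveI := hN'
      obtain ⟨R, hRn, hRs, hmax⟩ := exists_radical (G ⧸ K)
      haveI := hRn
      haveI := hRs
      let π : G →* (G ⧸ K) ⧸ R := (QuotientGroup.mk' R).comp (QuotientGroup.mk' K)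
      have hπ : Function.Surjective π := (QuotientGroup.mk'_surjective R).comp (QuotientGroup.mk'_surjective K)
      have hKπ : K ≤ π.ker := fun x hx => by
        rw [MonoidHom.mem_ker, MonoidHom.comp_apply, QuotientGroup.mk'_apply K, (QuotientGroup.eq_one_iff x).2 hx,
          map_one]
      have hNπ : N' ⊓ π.ker = ⊥ := by
        refine hR _ inferInstance ?_
        let f : ↥(N' ⊓ π.ker : Subgroup G) →* ↥R :=
          ((QuotientGroup.mk' K).comp (N' ⊓ π.ker : Subgroup G).subtype).codRestrict R fun x =>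
            (QuotientGroup.eq_one_iff (QuotientGroup.mk' K (x : G))).1 (MonoidHom.mem_ker.1 x.2.2)
        refine Group.isSolvable_of_isSolvable_injective (f := f) ((injective_iff_map_eq_one f).2 fun x hx => Subtype.ext ?_)
        have h1 : (x : G) ∈ K := (QuotientGroup.eq_one_iff (x : G)).1 (congrArg Subtype.val hx)
        exact mem_bot.1 (hd ▸ (⟨x.2.1, h1⟩ : (x : G) ∈ N' ⊓ K))
      have hQns : ¬ Group.IsSolvable ((G ⧸ K) ⧸ R) := fun hs => by
        haveI := hs
        refine hN'1 (hR N' hN' (Group.isSolvable_of_isSolvable_injective (f := π.comp N'.subtype) ?_))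
        exact (injective_iff_map_eq_one _).2 fun x hx =>
          Subtype.ext (mem_bot.1 (hNπ ▸ (⟨x.2, hx⟩ : (x : G) ∈ N' ⊓ π.ker)))
      have hlt : Nat.card ((G ⧸ K) ⧸ R) < k := by
        refine hk ▸ (Nat.card_le_card_of_surjective _ (QuotientGroup.mk'_surjective R)).trans_lt ?_
        rw [← index_eq_card]
        have h1 := K.card_mul_index
        have h2 : 1 < Nat.card ↥K := K.one_lt_card_iff_ne_bot.2 hK1
        have h3 : 0 < K.index := Nat.pos_of_ne_zero index_ne_zero_of_finite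
        nlinarith
      exact ⟨_, inferInstance, inferInstance, π, hπ, hKπ, hNπ, noRad_quotient hmax, hQns,
        ih _ hlt _ rfl (Factor.map ⟨A, B, hA, hB, hAB⟩ π hπ) hQns (noRad_quotient hmax)⟩
    obtain ⟨Q₁, g1, f1, π₁, hπ₁, hCπ, hN₁, hR₁, hns₁, hT₁⟩ := quot C N hCn hN hNC hC1 hN1
    obtain ⟨Q₂, g2, f2, π₂, hπ₂, hNπ, hC₂, hR₂, hns₂, hT₂⟩ := quot N C hN hCn (inf_comm C N ▸ hNC) hN1 hC1
    -- the joint kernel is trivial
    have hW : ∀ g, π₁ g = 1 → π₂ g = 1 → g = 1 := by
      intro g h1 h2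
      have hgC : g ∈ C := mem_centralizer_iff.2 fun n hn => by
        have h3 : n * g * n⁻¹ * g⁻¹ ∈ N ⊓ π₁.ker := ⟨by
          rw [show n * g * n⁻¹ * g⁻¹ = n * (g * n⁻¹ * g⁻¹) by group]
          exact N.mul_mem hn (hN.conj_mem _ (N.inv_mem hn) g), by
          show π₁ (n * g * n⁻¹ * g⁻¹) = 1
          rw [map_mul, map_mul, map_mul, map_inv, map_inv, h1]; group⟩
        rw [hN₁, mem_bot, mul_inv_eq_one, mul_inv_eq_iff_eq_mul] at h3
        exact h3
      exact mem_bot.1 (hC₂ ▸ (⟨hgC, h2⟩ : g ∈ C ⊓ π₂.ker))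
    have facts : ∀ (Q : Type u) [Group Q] [Finite Q] (π : G →* Q), Function.Surjective π → NoRad Q →
        ¬ Group.IsSolvable Q → Even (Nat.card ↥(A.map π)) ∧ Even (Nat.card ↥(B.map π)) ∧
          Nat.card Q = Nat.card ↥(A.map π) * Nat.card ↥(B.map π) := by
      intro Q _ _ π hπ hRQ hQ
      obtain ⟨hc, hs⟩ := cfg_of_factor hRQ (isCyclic_of_surjective (π.subgroupMap A) (π.subgroupMap_surjective A))
        (IsZGroup.of_surjective (π.subgroupMap_surjective B)) (A := A.map π) (B := B.map π) (fun q => by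
          obtain ⟨g, rfl⟩ := hπ q
          obtain ⟨a, ha, b, hb, rfl⟩ := hAB g
          exact ⟨π a, mem_map_of_mem π ha, π b, mem_map_of_mem π hb, map_mul π a b⟩)
      have h1 := hc.even hQ
      have h2 := hc.card_G
      rw [hs, ← hc.card_A] at h1 h2
      exact ⟨h1.1, h1.2, h2⟩
    obtain ⟨ea₁, eb₁, hc₁⟩ := facts Q₁ π₁ hπ₁ hR₁ hns₁
    obtain ⟨ea₂, eb₂, hc₂⟩ := facts Q₂ π₂ hπ₂ hR₂ hns₂
    have hA' := two_mul_le_of_dvd_lcm ea₁ ea₂ Nat.card_pos Nat.card_pos (card_dvd_lcm π₁ π₂ hW A)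
    have hB' := two_mul_le_of_dvd_lcm eb₁ eb₂ Nat.card_pos Nat.card_pos (card_dvd_lcm π₁ π₂ hW B)
    have h4G : 4 * Nat.card G ≤ Nat.card Q₁ * Nat.card Q₂ := by
      have h0 := hcfg.card_G
      rw [hst, ← hcfg.card_A] at h0
      rw [h0, hc₁, hc₂]
      calc 4 * (Nat.card ↥A * Nat.card ↥B) = (2 * Nat.card ↥A) * (2 * Nat.card ↥B) := by ring
        _ ≤ _ := Nat.mul_le_mul hA' hB'
        _ = _ := by ring
    have himg : ∀ (Q : Type u) [Group Q] [Finite Q] (π : G →* Q) (N' : Subgroup G), N'.Normal → N' ≠ ⊥ →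
        Function.Surjective π → N' ⊓ π.ker = ⊥ → NoRad Q → Target Q →
        Nat.card Q ≤ 2 * Nat.card ↥N' ∧ Nat.card ↥(N'.map π) = Nat.card ↥N' := by
      intro Q _ _ π N' hN' hN'1 hπ hd hRQ hTQ
      haveI := hN'
      obtain ⟨F, _, _, L, hLn, hLi, hLs, -⟩ := exists_socle_target hTQ
      have hinj : Function.Injective (π.subgroupMap N') := (injective_iff_map_eq_one _).2 fun x hx =>
        Subtype.ext (mem_bot.1 (hd ▸ (⟨x.2, congrArg Subtype.val hx⟩ : (x : G) ∈ N' ⊓ π.ker)))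
      have hc : Nat.card ↥(N'.map π) = Nat.card ↥N' :=
        (Nat.card_eq_of_bijective _ ⟨hinj, π.subgroupMap_surjective N'⟩).symm
      haveI : (N'.map π).Normal := hN'.map π hπ
      have hne : N'.map π ≠ ⊥ := fun e => by
        rw [e, card_bot] at hc
        exact hN'1 (eq_bot_of_card_eq _ hc.symm)
      have hle := Nat.le_of_dvd (by rw [hLi]; norm_num) (index_dvd_of_le (socle_le hRQ hLi hne))
      rw [hLi] at hle
      refine ⟨?_, hc⟩
      rw [← hc, ← (N'.map π).card_mul_index, mul_comm 2]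
      exact Nat.mul_le_mul_left _ hle
    obtain ⟨hQ₁, hN'₁⟩ := himg Q₁ π₁ N hN hN1 hπ₁ hN₁ hR₁ hT₁
    obtain ⟨hQ₂, -⟩ := himg Q₂ π₂ C hCn hC1 hπ₂ hC₂ hR₂ hT₂
    let μ : ↥N × ↥C → G := fun x => (x.1 : G) * x.2
    have hμ : Function.Injective μ := by
      rintro ⟨n, c⟩ ⟨n', c'⟩ e
      have e' : (n : G) * c = n' * c' := e
      have h1 : (n' : G)⁻¹ * n = c' * (c : G)⁻¹ := by
        rw [eq_mul_inv_iff_mul_eq, mul_assoc, e', inv_mul_cancel_left]
      have h2 : (n' : G)⁻¹ * n ∈ N ⊓ C :=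
        ⟨N.mul_mem (N.inv_mem n'.2) n.2, h1 ▸ C.mul_mem c'.2 (C.inv_mem c.2)⟩
      rw [hNC, mem_bot, inv_mul_eq_one] at h2
      rw [h2] at e'
      exact Prod.ext (Subtype.ext h2.symm) (Subtype.ext (mul_left_cancel e'))
    have hprod := Nat.card_le_card_of_injective μ hμ
    rw [Nat.card_prod] at hprod
    have hQQ := Nat.mul_le_mul hQ₁ hQ₂
    have hbij : Function.Bijective μ := (Nat.bijective_iff_injective_and_card μ).2 ⟨hμ, by
      rw [Nat.card_prod]
      have h1 : 2 * Nat.card ↥N * (2 * Nat.card ↥C) = 4 * (Nat.card ↥N * Nat.card ↥C) := by ring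
      omega⟩
    have hQ1le : Nat.card Q₁ ≤ Nat.card ↥N := by
      rw [← hN'₁]
      refine (Nat.card_le_card_of_surjective (fun x : ↥(N.map π₁) => (x : Q₁)) fun q => ?_)
      obtain ⟨g, rfl⟩ := hπ₁ q
      obtain ⟨⟨n, c⟩, rfl⟩ := hbij.2 g
      refine ⟨⟨π₁ (n : G), mem_map_of_mem π₁ n.2⟩, ?_⟩
      show π₁ (n : G) = π₁ ((n : G) * c)
      rw [map_mul, MonoidHom.mem_ker.1 (hCπ c.2), mul_one]
    have hNpos : 0 < Nat.card ↥N := Nat.card_pos
    have hCpos : 0 < Nat.card ↥C := Nat.card_pos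
    nlinarith
  -- a maximal subgroup over the Z-group
  have hBtop : B ≠ ⊤ := fun e => by
    subst e
    haveI : IsZGroup G := IsZGroup.of_surjective (f := (topEquiv (G := G)).toMonoidHom) topEquiv.surjective
    exact hns inferInstance
  obtain ⟨M, hM, hBM⟩ := (eq_top_or_exists_le_coatom B).resolve_left hBtop
  have hcore : A ⊓ M ≤ M.normalCore := by
    intro x hx c
    obtain ⟨a₁, ha₁, b₁, hb₁, hc⟩ := hAB c⁻¹
    rw [show c = b₁⁻¹ * a₁⁻¹ by rw [← mul_inv_rev, ← hc, inv_inv],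
      show b₁⁻¹ * a₁⁻¹ * x * (b₁⁻¹ * a₁⁻¹)⁻¹ = b₁⁻¹ * (a₁⁻¹ * (x * a₁)) * b₁ by group,
      hcfg.comm_A hx.1 ha₁, inv_mul_cancel_left]
    exact M.mul_mem (M.mul_mem (M.inv_mem (hBM hb₁)) hx.2) (hBM hb₁)
  have hMB : M.normalCore = ⊥ → M = B := fun h0 => le_antisymm (fun m hm => by
    obtain ⟨a, ha, b, hb, rfl⟩ := hAB m
    have h1 : a ∈ M := (M.mul_mem_cancel_right (hBM hb)).1 hm
    have h2 : a ∈ (⊥ : Subgroup G) := h0 ▸ hcore ⟨ha, h1⟩
    rw [mem_bot.1 h2, one_mul]
    exact hb) hBM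
  by_cases hMs : Group.IsSolvable ↥M
  · haveI := hMs
    haveI : Group.IsSolvable ↥M.normalCore := Group.isSolvable_of_isSolvable_injective (inclusion_injective (normalCore_le M))
    obtain rfl := hMB (hR _ inferInstance inferInstance)
    haveI := hcfg.pretransitive
    haveI : Nontrivial (G ⧸ M) := Finite.one_lt_card_iff_nontrivial.1 (by have := hcfg.three_le hns; omega)
    haveI : IsPreprimitive G (G ⧸ M) :=
      (isCoatom_stabilizer_iff_preprimitive (G := G) ((1 : G) : G ⧸ M)).1 (hst.symm ▸ hM)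
    exact hcfg.linear hR hns
  exfalso
  set K := M.normalCore with hK
  have hK1 : K ≠ ⊥ := fun h0 => hMs (hMB h0 ▸ (inferInstance : Group.IsSolvable ↥B))
  have hFM : Factor ↥M := by
    refine ⟨A.subgroupOf M, B.subgroupOf M, ?_, ?_, fun m => ?_⟩
    · exact isCyclic_of_injective ((M.subtype.comp (A.subgroupOf M).subtype).codRestrict A fun x => x.2)
        fun a b e => Subtype.ext (Subtype.ext (congrArg Subtype.val e :))
    · exact IsZGroup.of_injective (f := (M.subtype.comp (B.subgroupOf M).subtype).codRestrict B fun x => x.2)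
        fun a b e => Subtype.ext (Subtype.ext (congrArg Subtype.val e :))
    · obtain ⟨a, ha, b, hb, e⟩ := hAB m
      have h1 : a ∈ M := (M.mul_mem_cancel_right (hBM hb)).1 (e ▸ m.2)
      exact ⟨⟨a, h1⟩, ha, ⟨b, hBM hb⟩, hb, Subtype.ext e⟩
  obtain ⟨R, hRn, hRs, hmax⟩ := exists_radical ↥M
  haveI := hRn
  haveI := hRs
  set π := QuotientGroup.mk' R with hπ
  have hMlt : Nat.card ↥M < k := hk ▸ (lt_of_le_of_ne (Nat.le_of_dvd Nat.card_pos (card_subgroup_dvd_card M))
    fun e => hM.1 (eq_top_of_card_eq M e))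
  have hRQ : NoRad (↥M ⧸ R) := noRad_quotient hmax
  have hT : Target (↥M ⧸ R) := ih _ ((Nat.card_le_card_of_surjective _ (QuotientGroup.mk'_surjective R)).trans_lt hMlt)
    _ rfl (hFM.map π (QuotientGroup.mk'_surjective R)) (nonsolvable_quotient hMs R) hRQ
  obtain ⟨F, hF, hFf, L, hLn, hLi, hLs, hLp, ⟨eL⟩, haut⟩ := exists_socle_target hT
  have hKM : K ≤ M := normalCore_le M
  set K' := K.subgroupOf M with hK'
  haveI : K'.Normal := (inferInstance : K.Normal).subgroupOf M
  have hd : ∀ x ∈ K', π x = 1 → x = 1 := by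
    intro x hx h1
    let incl : ↥K →* ↥M := inclusion hKM
    let N₀ : Subgroup ↥K := π.ker.comap incl
    haveI : N₀.Normal := π.normal_ker.comap incl
    have hN₀s : Group.IsSolvable ↥N₀ := by
      let f : ↥N₀ →* ↥R := (incl.comp N₀.subtype).codRestrict R fun y => (QuotientGroup.eq_one_iff _).1 y.2
      exact Group.isSolvable_of_isSolvable_injective (f := f) fun a b e =>
        Subtype.ext (inclusion_injective hKM (congrArg Subtype.val e :))
    have h2 : (⟨(x : G), hx⟩ : ↥K) ∈ N₀ := h1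
    rw [(hR.of_normal K) N₀ inferInstance hN₀s, mem_bot] at h2
    exact Subtype.ext (congrArg Subtype.val h2 :)
  set N := ⁅K, K⁆ with hN
  haveI : N.Normal := Subgroup.commutator_normal K K
  have hN1 : N ≠ ⊥ := fun e => hK1 (hR.of_comm inferInstance fun a ha b hb =>
    commutatorElement_eq_one_iff_mul_comm.1 (mem_bot.1 (e ▸ commutator_mem_commutator ha hb)))
  have hNM : N ≤ M := (commutator_le_right K K).trans hKM
  have hNK : N ≤ K := commutator_le_right K K
  have hN' : N.subgroupOf M = ⁅K', K'⁆ := by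
    refine Subgroup.map_injective M.subtype_injective ?_
    rw [map_commutator, subgroupOf_map_subtype, subgroupOf_map_subtype, inf_eq_left.2 hKM, inf_eq_left.2 hNM]
  have himg : (N.subgroupOf M).map π = L := by
    rw [hN', map_commutator]
    haveI : (K'.map π).Normal := (inferInstance : K'.Normal).map π (QuotientGroup.mk'_surjective R)
    have hne : K'.map π ≠ ⊥ := fun e => by
      obtain ⟨⟨x, hx⟩, hx1⟩ := (K.ne_bot_iff_exists_ne_one).1 hK1
      refine hx1 (Subtype.ext ?_)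
      exact congrArg (fun v : ↥M => (v : G)) (hd ⟨x, hKM hx⟩ hx (mem_bot.1 (e ▸ mem_map_of_mem π (mem_subgroupOf.2 hx))))
    refine le_antisymm ?_ (hLp.ge.trans (Subgroup.commutator_mono (socle_le hRQ hLi hne) (socle_le hRQ hLi hne)))
    rw [commutator_le]
    intro a _ b _
    haveI : IsCyclic ((↥M ⧸ R) ⧸ L) := isCyclic_of_prime_card (p := 2) (by rw [← index_eq_card, hLi])
    have h1 : QuotientGroup.mk' L ⁅a, b⁆ = 1 := by
      rw [map_commutatorElement, commutatorElement_eq_one_iff_mul_comm]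
      exact IsMulCommutative.is_comm.comm _ _
    exact (QuotientGroup.eq_one_iff _).1 h1
  let eN : ↥N ≃* Matrix.ProjectiveSpecialLinearGroup (Fin 2) F :=
    (subgroupOfEquivOfLe hNM).symm.trans
      ((MulEquiv.ofBijective (π.subgroupMap (N.subgroupOf M)) ⟨(injective_iff_map_eq_one _).2 fun x hx =>
          Subtype.ext (hd _ (mem_subgroupOf.2 (hNK (mem_subgroupOf.1 x.2))) (congrArg Subtype.val hx)),
          π.subgroupMap_surjective _⟩).trans ((MulEquiv.subgroupCongr himg).trans eL))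
  let Φ : G →* MulAut (Matrix.ProjectiveSpecialLinearGroup (Fin 2) F) :=
    (MulAut.congr eN).toMonoidHom.comp (MulAut.conjNormal (H := N))
  have hΦinj : Function.Injective Φ := by
    refine (MulAut.congr eN).injective.comp ?_
    rw [← MonoidHom.ker_eq_bot_iff, eq_bot_iff]
    intro x hx
    rw [← hcen N inferInstance hN1]
    refine mem_centralizer_iff.2 fun l hl => ?_
    have := congrArg Subtype.val (DFunLike.congr_fun (MonoidHom.mem_ker.1 hx) ⟨l, hl⟩)
    rw [MulAut.conjNormal_apply] at this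
    exact (mul_inv_eq_iff_eq_mul.1 this).symm
  haveI : Finite (MulAut (Matrix.ProjectiveSpecialLinearGroup (Fin 2) F)) := inferInstance
  have h1 := (Nat.card_le_card_of_injective Φ hΦinj).trans
    (haut.trans (Nat.card_le_card_of_surjective _ (QuotientGroup.mk'_surjective R)))
  omega

/-- S3252. -/
theorem main {G : Type u} [Group G] [Finite G] (hns : ¬ Group.IsSolvable G) (A B : Subgroup G) (hA : IsCyclic ↥A)
    (hB : IsZGroup ↥B) (hAB : ∀ g : G, ∃ a ∈ A, ∃ b ∈ B, g = a * b) (R : Subgroup G) [R.Normal]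
    [Group.IsSolvable ↥R] (hRmax : ∀ N : Subgroup G, N.Normal → Group.IsSolvable ↥N → N ≤ R) : Target (G ⧸ R) :=
  target_of_noRad _ (G ⧸ R) rfl (Factor.map ⟨A, B, hA, hB, hAB⟩ (QuotientGroup.mk' R) (QuotientGroup.mk'_surjective R))
    (nonsolvable_quotient hns R) (noRad_quotient hRmax)

end Cfsg.Agent.Invol.CyclicZ
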