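import Cfsg.Agent.Lib.Invol.CyclicZ.Basic

/-!
# An involution without fixed points and one with fixed points are not both even

For a doubly transitive group with a regular cyclic subgroup and a Z-group as point stabiliser, the involution of
the cyclic subgroup and an involution with a fixed point cannot both be even permutations.
-/

set_option autoImplicit false
set_option linter.style.haveILetI false
set_option linter.unusedSectionVars false

namespace Cfsg.Agent.Invol.CyclicZ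

open MulAction Subgroup

variable {G : Type*} [Group G] [Finite G] {Ω : Type*} [MulAction G Ω] [Finite Ω] {A : Subgroup G} {α : Ω}

/-- The situation to be refuted, after normalising: `η` fixes `α` and `β = z α`, and `z η` has a fixed point. -/
structure Bad (A : Subgroup G) (α : Ω) (z η : G) : Prop where
  z_mem : z ∈ A
  z_sq : z * z = 1
  z_ne : z ≠ 1
  fix : η • α = α
  fix' : η • (z • α) = z • α
  sq : η * η = 1
  ne : η ≠ 1
  comm : z * η = η * z
  even : sgn G Ω η = 1
  moved : ∃ δ : Ω, (z * η) • δ = δ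

namespace Cfg

variable (h : Cfg A α)
include h

theorem fpf {a : G} (ha : a ∈ A) (ha1 : a ≠ 1) (x : Ω) : a • x ≠ x := fun e => ha1 (h.semi a ha x e)

theorem comm_A {a b : G} (ha : a ∈ A) (hb : b ∈ A) : a * b = b * a := by
  haveI := h.cyc
  exact congrArg Subtype.val (IsMulCommutative.is_comm.comm (⟨a, ha⟩ : ↥A) ⟨b, hb⟩)

theorem zne {z : G} (hz : z ∈ A) (hz1 : z ≠ 1) : z • α ≠ α := h.fpf hz hz1 α

/-- The generator of the stabiliser's Sylow subgroup, inside a two-point stabiliser. -/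
theorem exists_gen (hns : ¬ Group.IsSolvable G) [h2 : IsMultiplyPretransitive G Ω 2] {β : Ω} (hβ : β ≠ α) :
    ∃ y : G, y ∈ stabilizer G α ⊓ stabilizer G β ∧
      ∀ (H : Subgroup G) (χ : ↥H →* ℤˣ) (hyH : y ∈ H), (∃ b : ↥H, (b : G) • α = α ∧ χ b = -1) →
        χ ⟨y, hyH⟩ = -1 := by
  classical
  haveI : Fact (Nat.Prime 2) := ⟨Nat.prime_two⟩
  set B := stabilizer G α
  set D := stabilizer G α ⊓ stabilizer G β with hD
  have hidx : Odd (D.subgroupOf B).index := by
    have horb : MulAction.orbit ↥B β = {x | x ≠ α} := by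
      ext x
      constructor
      · rintro ⟨⟨g, hg⟩, rfl⟩ hx
        have hx' : g • β = α := hx
        exact hβ (smul_left_cancel g (hx'.trans (show α = g • α from hg.symm)))
      · intro hx
        obtain ⟨g, hg1, hg2⟩ := is_two_pretransitive_iff.1 h2 (Ne.symm hβ) (Ne.symm hx)
        exact ⟨⟨g, hg1⟩, hg2⟩
    have hst : D.subgroupOf B = stabilizer ↥B β := by
      ext b
      exact ⟨fun hb => hb.2, fun hb => ⟨b.2, hb⟩⟩
    rw [hst, index_stabilizer, horb]
    obtain ⟨k, hk⟩ := (h.even hns).1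
    have h1 := Set.ncard_compl ({α} : Set Ω)
    have hpos := h.card_A ▸ (Nat.card_pos (α := ↥A))
    rw [Set.ncard_singleton, show ({α}ᶜ : Set Ω) = {x | x ≠ α} from rfl] at h1
    exact ⟨k - 1, by omega⟩
  obtain ⟨P⟩ : Nonempty (Sylow 2 ↥(D.subgroupOf B)) := inferInstance
  haveI hcyc : IsCyclic ↥(D.subgroupOf B) :=
    (subgroupOfEquivOfLe (inf_le_left : D ≤ B)).isCyclic.2 (h.twoPoint_cyclic hβ)
  have hndvd : ¬ 2 ∣ ((P : Subgroup ↥(D.subgroupOf B)).map (D.subgroupOf B).subtype).index := by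
    rw [index_map_subtype, Nat.prime_two.dvd_mul]
    exact fun e => e.elim P.not_dvd_index fun h3 => (Nat.not_even_iff_odd.2 hidx) (even_iff_two_dvd.2 h3)
  let Q : Sylow 2 ↥B := (P.isPGroup'.map (D.subgroupOf B).subtype).toSylow hndvd
  obtain ⟨⟨d, hd⟩, hgen⟩ := (inferInstance : IsCyclic ↥(P : Subgroup ↥(D.subgroupOf B))).exists_generator
  set y : G := ((d : ↥B) : G) with hy
  refine ⟨y, d.2, ?_⟩
  intro H χ hyH ⟨b, hb, hχb⟩
  -- work in the stabiliser of `α` inside `H`
  let B₀ : Subgroup ↥H := B.subgroupOf H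
  obtain ⟨R⟩ : Nonempty (Sylow 2 ↥B₀) := inferInstance
  let Y : Subgroup ↥B₀ := zpowers ⟨⟨y, hyH⟩, d.1.2⟩
  have hYp : IsPGroup 2 ↥Y := by
    obtain ⟨i, hi⟩ := P.isPGroup' ⟨d, hd⟩
    have hord : y ^ 2 ^ i = 1 := congrArg (fun w : ↥(P : Subgroup ↥(D.subgroupOf B)) => ((w.1 : ↥B) : G)) hi
    have h0 : (⟨⟨y, hyH⟩, d.1.2⟩ : ↥B₀) ^ 2 ^ i = 1 := Subtype.ext (Subtype.ext hord)
    intro u
    obtain ⟨j, hj⟩ := mem_zpowers_iff.1 u.2
    refine ⟨i, Subtype.ext ?_⟩
    rw [SubmonoidClass.coe_pow, ← hj, ← zpow_natCast, zpow_comm, zpow_natCast, h0, one_zpow]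
    rfl
  obtain ⟨R', hR'⟩ := hYp.exists_le_sylow
  have key : (R' : Subgroup ↥B₀) ≤ Y := by
    let ψ : ↥B₀ →* ↥B := MonoidHom.codRestrict (H.subtype.comp B₀.subtype) B fun u => u.2
    have hψ : Function.Injective ψ := fun u v e => Subtype.ext (Subtype.ext (congrArg Subtype.val e :))
    have hQle : (Q : Subgroup ↥B) ≤ zpowers (d : ↥B) := by
      rintro _ ⟨u, hu, rfl⟩
      obtain ⟨j, hj⟩ := hgen ⟨u, hu⟩
      exact ⟨j, congrArg (fun w : ↥(P : Subgroup ↥(D.subgroupOf B)) => (w.1 : ↥B)) hj⟩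
    have hdQ : (d : ↥B) ∈ (Q : Subgroup ↥B) := ⟨d, hd, rfl⟩
    have hQeq : (Q : Subgroup ↥B) = zpowers (d : ↥B) := le_antisymm hQle (zpowers_le.2 hdQ)
    have hYmap : Y.map ψ = zpowers (d : ↥B) := by
      rw [MonoidHom.map_zpowers]
      rfl
    have h1 : (R' : Subgroup ↥B₀).map ψ = (Q : Subgroup ↥B) :=
      Q.3 (R'.isPGroup'.map ψ) (hQeq.le.trans (hYmap.ge.trans (Subgroup.map_mono hR')))
    intro u hu
    have h2 : ψ u ∈ Y.map ψ := hYmap.ge (hQeq.le (h1 ▸ mem_map_of_mem ψ hu))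
    obtain ⟨v, hv, e⟩ := h2
    exact hψ e ▸ hv
  exact sgn_sylow (χ.comp B₀.subtype) ⟨⟨b, hb⟩, hχb⟩ R' key

/-- The situation `Bad` is impossible. -/
theorem no_bad (hns : ¬ Group.IsSolvable G) [h2 : IsMultiplyPretransitive G Ω 2] {z η : G} (hb : Bad A α z η) :
    False := by
  classical
  haveI := h.pretransitive
  have hprim : IsPreprimitive G Ω := isPreprimitive_of_is_two_pretransitive h2
  obtain ⟨hzA, hzz, hz1, hfix, hfix', hηη, hη1, hcomm, hev, δ, hδ⟩ := hb
  set β := z • α with hβdef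
  have hβα : β ≠ α := h.zne hzA hz1
  have hD := h.twoPoint_cyclic hβα
  have huniq : ∀ u : G, u • α = α → u • β = β → u * u = 1 → u ≠ 1 → u = η := fun u h1 h1' hu hu1 =>
    invol_unique hD ⟨h1, h1'⟩ ⟨hfix, hfix'⟩ hu hu1 hηη hη1
  have huniq' : ∀ u : G, u • α = α → u * z = z * u → u * u = 1 → u ≠ 1 → u = η := fun u h1 hc hu hu1 =>
    huniq u h1 (by rw [hβdef, ← mul_smul, hc, mul_smul, h1]) hu hu1
  -- conjugates by elements of `A`
  have hconj : ∀ a ∈ A, ∀ u : G, u * z = z * u → (a⁻¹ * u * a) * z = z * (a⁻¹ * u * a) := fun a ha u hu => by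
    have c1 : Commute a z := h.comm_A ha hzA
    have c2 : Commute u z := hu
    exact ((c1.inv_left.mul_left c2).mul_left c1).eq
  have hconj2 : ∀ a u : G, u * u = 1 → a⁻¹ * u * a * (a⁻¹ * u * a) = 1 := fun a u hu => by
    rw [show a⁻¹ * u * a * (a⁻¹ * u * a) = a⁻¹ * (u * u) * a by group, hu]; group
  have hconj1 : ∀ a u : G, u ≠ 1 → a⁻¹ * u * a ≠ 1 := fun a u hu e => hu (by
    have := congrArg (fun x => a * x * a⁻¹) e
    simpa [mul_assoc] using this)
  set H := centralizer ({η} : Set G) with hH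
  have hmemH : ∀ g : G, g ∈ H ↔ g * η = η * g := fun g => mem_centralizer_singleton_iff
  have hAη : ∀ a ∈ A, η • (a • α) = a • α → a ∈ H := by
    intro a ha e
    have h1 : a⁻¹ * η * a = η := huniq' _ (by rw [mul_smul, mul_smul, e, inv_smul_smul])
      (hconj a ha η hcomm.symm) (hconj2 a η hηη) (hconj1 a η hη1)
    rw [hmemH]
    calc a * η = a * (a⁻¹ * η * a) := by rw [h1]
      _ = η * a := by group
  -- an element of `A` exchanging `η` and `z η`
  obtain ⟨a, haA, rfl⟩ := h.trans α δ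
  have hzη : a⁻¹ * (z * η) * a = η := by
    refine huniq' _ (by rw [mul_smul, mul_smul, hδ, inv_smul_smul])
      (hconj a haA (z * η) (by rw [mul_assoc, ← hcomm])) (hconj2 a _ ?_) (hconj1 a _ ?_)
    · rw [show z * η * (z * η) = z * (η * z) * η by group, ← hcomm, show z * (z * η) * η = z * z * (η * η) by group,
        hzz, hηη, one_mul]
    · exact fun e => h.fpf hzA hz1 α (by rw [← hfix, ← mul_smul, e, one_smul, hfix])
  have haη : z * η = a * η * a⁻¹ := by
    calc z * η = a * (a⁻¹ * (z * η) * a) * a⁻¹ := by group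
      _ = a * η * a⁻¹ := by rw [hzη]
  have haH : a ∉ H := fun e => by
    rw [hmemH] at e
    rw [e, mul_inv_cancel_right] at haη
    exact hz1 (mul_eq_right.1 haη)
  have ha2 : a * a ∈ H := by
    rw [hmemH]
    have c : Commute a z := h.comm_A haA hzA
    calc a * a * η = a * (a * η * a⁻¹) * a := by group
      _ = a * z * (η * a) := by rw [← haη]; group
      _ = z * a * (η * a) := by rw [c.eq]
      _ = z * (a * η * a⁻¹) * (a * a) := by group
      _ = z * z * η * (a * a) := by rw [← haη]; group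
      _ = η * (a * a) := by rw [hzz, one_mul]
  have hzH : z ∈ H := (hmemH z).2 hcomm
  -- `A ∩ H` consists of even permutations
  have hAeven : ∀ e ∈ A, e ∈ H → sgn G Ω e = 1 := by
    intro e he heH
    obtain ⟨⟨g, hg⟩, hgen⟩ := h.cyc.exists_generator
    obtain ⟨i, hi⟩ := hgen ⟨a, haA⟩
    obtain ⟨j, hj⟩ := hgen ⟨e, he⟩
    have hi' : g ^ i = a := congrArg Subtype.val hi
    have hj' : g ^ j = e := congrArg Subtype.val hj
    rcases Int.even_or_odd j with ⟨k, rfl⟩ | ⟨k, rfl⟩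
    · rw [← hj', zpow_add, map_mul, units_sq]
    · exfalso
      refine haH ?_
      have h1 : a = e ^ i * ((a * a) ^ k)⁻¹ := by
        rw [← hj', ← hi', ← zpow_add, ← zpow_mul, ← zpow_mul, ← zpow_neg, ← zpow_add]
        congr 1
        ring
      rw [h1]
      exact H.mul_mem (H.zpow_mem heH i) (H.inv_mem (H.zpow_mem ha2 k))
  -- the fixed points of `η`
  let F : SubMulAction ↥H Ω :=
    { carrier := {x | η • x = x}
      smul_mem' := fun g x (hx : η • x = x) => by
        show η • ((g : G) • x) = (g : G) • x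
        rw [← mul_smul, ← (hmemH g).1 g.2, mul_smul, hx] }
  have hmemF : ∀ x, x ∈ F ↔ η • x = x := fun x => Iff.rfl
  let α' : ↥F := ⟨α, hfix⟩
  let β' : ↥F := ⟨β, hfix'⟩
  -- the stabiliser's Sylow generator
  obtain ⟨y, hyD, hsgn⟩ := h.exists_gen hns hβα
  have hyH : y ∈ H := by
    haveI := hD
    exact (hmemH y).2 (congrArg Subtype.val (IsMulCommutative.is_comm.comm
      (⟨y, hyD⟩ : ↥(stabilizer G α ⊓ stabilizer G β)) ⟨η, hfix, hfix'⟩))
  have hBodd : ∃ b : ↥(stabilizer G α), sgn G Ω b = -1 := by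
    obtain ⟨⟨g, hg⟩, hgen⟩ := h.cyc.exists_generator
    haveI : Nonempty Ω := ⟨α⟩
    have hg1 : sgn G Ω g = -1 := sgn_of_transitive (h.even hns).1 fun x x' => by
      obtain ⟨b, hb, e⟩ := h.trans x x'
      obtain ⟨i, hi⟩ := hgen ⟨b, hb⟩
      exact ⟨i, by rw [show g ^ i = b from congrArg Subtype.val hi, e]⟩
    obtain ⟨b, hb, e⟩ := sgn_stab_ne (sgn G Ω) (h.three_le hns) (g₀ := g) (by rw [hg1]; decide) α
    exact ⟨⟨b, hb⟩, e⟩
  have hyodd : sgn G Ω y = -1 := by
    obtain ⟨b, hb⟩ := hBodd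
    exact hsgn ⊤ ((sgn G Ω).comp (⊤ : Subgroup G).subtype) trivial ⟨⟨b, mem_top _⟩, b.2, hb⟩
  -- `z` commutes with an element of order four of the two-point stabiliser
  by_cases hbig : 3 ≤ Nat.card ↥F
  · have hF2 : IsMultiplyPretransitive ↥H ↥F 2 := by
      have key : ∀ p q : ↥F, p ≠ q → ∃ g : ↥H, (g : G) • (p : Ω) = α ∧ (g : G) • (q : Ω) = β := by
        intro p q hpq
        obtain ⟨g, hg1, hg2⟩ := is_two_pretransitive_iff.1 h2 (fun e => hpq (Subtype.ext e)) (Ne.symm hβα)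
        have h1 : g * η * g⁻¹ = η := by
          refine huniq _ ?_ ?_ ?_ (fun e => hη1 ?_)
          · rw [← hg1, mul_smul, inv_smul_smul, mul_smul, (hmemF _).1 p.2]
          · rw [← hg2, mul_smul, inv_smul_smul, mul_smul, (hmemF _).1 q.2]
          · rw [show g * η * g⁻¹ * (g * η * g⁻¹) = g * (η * η) * g⁻¹ by group, hηη]; group
          · exact conj_eq_one_iff.1 e
        exact ⟨⟨g, (hmemH g).2 (mul_inv_eq_iff_eq_mul.1 h1)⟩, hg1, hg2⟩
      rw [is_two_pretransitive_iff]
      intro p q p' q' hpq hpq'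
      obtain ⟨g, hg1, hg2⟩ := key p q hpq
      obtain ⟨g', hg1', hg2'⟩ := key p' q' hpq'
      refine ⟨g'⁻¹ * g, Subtype.ext ?_, Subtype.ext ?_⟩
      · show ((g'⁻¹ * g : ↥H) : G) • (p : Ω) = p'
        rw [Subgroup.coe_mul, Subgroup.coe_inv, mul_smul, hg1, inv_smul_eq_iff, hg1']
      · show ((g'⁻¹ * g : ↥H) : G) • (q : Ω) = q'
        rw [Subgroup.coe_mul, Subgroup.coe_inv, mul_smul, hg2, inv_smul_eq_iff, hg2']
    haveI := isPreprimitive_of_is_two_pretransitive hF2
    haveI : IsCyclic ↥(A ⊓ H : Subgroup G) := by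
      haveI := h.cyc
      exact isCyclic_of_injective (inclusion (inf_le_left : A ⊓ H ≤ A)) (inclusion_injective _)
    obtain ⟨⟨e₀, he₀⟩, hgen₀⟩ := (inferInstance : IsCyclic ↥(A ⊓ H : Subgroup G)).exists_generator
    have hFtr : ∀ x x' : ↥F, ∃ i : ℤ, (⟨e₀, he₀.2⟩ : ↥H) ^ i • x = x' := by
      have key : ∀ x : ↥F, ∃ i : ℤ, (⟨e₀, he₀.2⟩ : ↥H) ^ i • α' = x := by
        intro x
        obtain ⟨b, hb, e⟩ := h.trans α x
        obtain ⟨i, hi⟩ := hgen₀ ⟨b, hb, hAη b hb (e ▸ (hmemF _).1 x.2)⟩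
        refine ⟨i, Subtype.ext ?_⟩
        show ((⟨e₀, he₀.2⟩ : ↥H) ^ i : ↥H).1 • α = x
        rw [SubgroupClass.coe_zpow, show e₀ ^ i = b from congrArg Subtype.val hi, e]
      intro x x'
      obtain ⟨i, hi⟩ := key x
      obtain ⟨j, hj⟩ := key x'
      exact ⟨j - i, by rw [← hi, ← mul_smul, ← zpow_add, sub_add_cancel, hj]⟩
    have hFeven : Even (Nat.card ↥F) := by
      let e : Equiv.Perm ↥F := toPermHom ↥H ↥F ⟨z, hzH⟩
      have he : ∀ x : ↥F, e x ≠ x := fun x hx => h.fpf hzA hz1 x (congrArg Subtype.val hx)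
      have he2 : e ^ 2 = 1 := by
        rw [pow_two, ← map_mul, show (⟨z, hzH⟩ : ↥H) * ⟨z, hzH⟩ = 1 from Subtype.ext hzz, map_one]
      letI := Fintype.ofFinite ↥F
      have h1 := Equiv.Perm.two_dvd_card_support he2
      have hsupp : e.support = Finset.univ := Finset.eq_univ_of_forall fun x => Equiv.Perm.mem_support.2 (he x)
      rw [hsupp, Finset.card_univ, ← Nat.card_eq_fintype_card] at h1
      exact even_iff_two_dvd.2 h1
    haveI : Nonempty ↥F := ⟨α'⟩
    set χ : ↥H →* ℤˣ := ((sgn G Ω).comp H.subtype) * sgn ↥H ↥F with hχ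
    have he₀χ : χ ⟨e₀, he₀.2⟩ = -1 := by
      show sgn G Ω e₀ * sgn ↥H ↥F ⟨e₀, he₀.2⟩ = -1
      rw [hAeven e₀ he₀.1 he₀.2, sgn_of_transitive hFeven hFtr, one_mul]
    have stab : ∀ (ψ : ↥H →* ℤˣ) (g₀ : ↥H), ψ g₀ ≠ 1 → ψ ⟨y, hyH⟩ = -1 := by
      intro ψ g₀ hg₀
      obtain ⟨b, hb, e⟩ := sgn_stab_ne ψ hbig hg₀ α'
      exact hsgn H ψ hyH ⟨b, congrArg Subtype.val hb, e⟩
    have hyF : sgn ↥H ↥F ⟨y, hyH⟩ = -1 :=
      stab _ ⟨e₀, he₀.2⟩ (by rw [sgn_of_transitive hFeven hFtr]; decide)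
    have hyχ := stab χ ⟨e₀, he₀.2⟩ (by rw [he₀χ]; decide)
    rw [hχ, MonoidHom.mul_apply, hyF, MonoidHom.comp_apply, Subgroup.coe_subtype, hyodd] at hyχ
    exact absurd hyχ (by decide)
  · -- exactly two fixed points
    have hF : ∀ x, η • x = x → x = α ∨ x = β := by
      intro x hx
      by_contra hc
      push Not at hc
      refine hbig ?_
      letI := Fintype.ofFinite ↥F
      rw [Nat.card_eq_fintype_card]
      exact (Finset.card_eq_three.2 ⟨α', β', ⟨x, hx⟩, fun e => hβα (congrArg Subtype.val e).symm,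
        fun e => hc.1 (congrArg Subtype.val e).symm, fun e => hc.2 (congrArg Subtype.val e).symm, rfl⟩).ge.trans
        (Finset.card_le_univ _)
    set D := stabilizer G α ⊓ stabilizer G β with hDdef
    obtain ⟨⟨t, ht⟩, hgen⟩ := hD.exists_generator
    have hDc : ∀ u ∈ D, ∀ v ∈ D, u * v = v * u := fun u hu v hv => by
      haveI := hD
      exact congrArg Subtype.val (IsMulCommutative.is_comm.comm (⟨u, hu⟩ : ↥D) ⟨v, hv⟩)
    obtain ⟨v, hvD, hvv⟩ : ∃ v ∈ D, v * v = η := by
      obtain ⟨i, hi⟩ := hgen ⟨η, hfix, hfix'⟩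
      obtain ⟨j, hj⟩ := hgen ⟨y, hyD⟩
      have hi' : t ^ i = η := congrArg Subtype.val hi
      have hj' : t ^ j = y := congrArg Subtype.val hj
      have ht1 : sgn G Ω t = -1 := (units_cases _).resolve_left fun e => by
        rw [← hj', map_zpow, e, one_zpow] at hyodd
        exact absurd hyodd (by decide)
      rcases Int.even_or_odd i with ⟨k, rfl⟩ | ⟨k, rfl⟩
      · exact ⟨t ^ k, D.zpow_mem ht k, by rw [← zpow_add, hi']⟩
      · exfalso
        rw [← hi', map_zpow, ht1, zpow_add, zpow_mul, zpow_one, zpow_two, units_sq,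
          one_zpow, one_mul] at hev
        exact absurd hev (by decide)
    have hzinv : z⁻¹ = z := inv_eq_of_mul_eq_one_left hzz
    have hzD : z * v * z ∈ D := by
      refine ⟨?_, ?_⟩ <;> show (z * v * z) • _ = _
      · rw [mul_smul, mul_smul, ← hβdef, show v • β = β from hvD.2, hβdef, ← mul_smul, hzz, one_smul]
      · rw [mul_smul, mul_smul, hβdef, ← mul_smul z z, hzz, one_smul, show v • α = α from hvD.1]
    have hw : z * v * z * (z * v * z) = η := by
      rw [show z * v * z * (z * v * z) = z * v * (z * z) * v * z by group, hzz, mul_one,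
        show z * v * v * z = z * (v * v) * z by group, hvv, hcomm, mul_assoc, hzz, mul_one]
    have hcv : z * v * z * v⁻¹ = v⁻¹ * (z * v * z) := hDc _ hzD _ (D.inv_mem hvD)
    have hsq1 : z * v * z * v⁻¹ * (z * v * z * v⁻¹) = 1 := by
      nth_rw 2 [hcv]
      rw [show z * v * z * v⁻¹ * (v⁻¹ * (z * v * z)) = z * v * z * (v * v)⁻¹ * (z * v * z) by group, hvv,
        inv_eq_of_mul_eq_one_left hηη, mul_assoc, hDc η ⟨hfix, hfix'⟩ _ hzD, ← mul_assoc, hw, hηη]
    rcases eq_or_ne (z * v * z * v⁻¹) 1 with hone | hone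
    · -- `v` commutes with `z`: it moves the fixed points of `z η`
      have hvz : z * v * z = v := mul_inv_eq_one.1 hone
      have hc : v * z = z * v := by
        calc v * z = z * v * z * z := by rw [hvz]
          _ = z * v := by rw [mul_assoc, hzz, mul_one]
      have c : Commute a z := h.comm_A haA hzA
      have hcount : ∀ x, (z * η) • x = x → x = a • α ∨ x = z • a • α := by
        intro x hx
        have h1 : η • (a⁻¹ • x) = a⁻¹ • x := by
          rw [← hzη, mul_smul, mul_smul, smul_inv_smul, hx]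
        rcases hF _ h1 with e | e
        · left; rw [← e, smul_inv_smul]
        · right; rw [← mul_smul, ← c.eq, mul_smul, ← hβdef, ← e, smul_inv_smul]
      have hvδ : (z * η) • (v • a • α) = v • a • α := by
        rw [← mul_smul, show z * η * v = v * (z * η) by
          rw [mul_assoc, hDc η ⟨hfix, hfix'⟩ v hvD, ← mul_assoc, ← hc, mul_assoc], mul_smul, hδ]
      have hηδ : η • (a • α) = a • α := by
        rw [← hvv, mul_smul]
        rcases hcount _ hvδ with e | e
        · rw [e, e]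
        · rw [e, ← mul_smul, hc, mul_smul, e, ← mul_smul, hzz, one_smul]
      refine h.fpf hzA hz1 (a • α) ?_
      rw [mul_smul, hηδ] at hδ
      exact hδ
    · -- `z` inverts `v`: then `z` is conjugate to `z η`
      have hwη : z * v * z * v⁻¹ = η :=
        huniq _ (D.mul_mem hzD (D.inv_mem hvD)).1 (D.mul_mem hzD (D.inv_mem hvD)).2 hsq1 hone
      have hconjz : v⁻¹ * z * v = z * η := by
        have h1 : z * v * z = η * v := mul_inv_eq_iff_eq_mul.1 hwη
        have h3 : z * v⁻¹ * z = v⁻¹ * η := by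
          calc z * v⁻¹ * z = z⁻¹ * v⁻¹ * z⁻¹ := by rw [hzinv]
            _ = (z * v * z)⁻¹ := by group
            _ = (η * v)⁻¹ := by rw [h1]
            _ = v⁻¹ * η := by rw [mul_inv_rev, inv_eq_of_mul_eq_one_left hηη]
        calc v⁻¹ * z * v = (z * z) * v⁻¹ * z * v := by rw [hzz, one_mul]
          _ = z * (z * v⁻¹ * z) * v := by group
          _ = z * v⁻¹ * (η * v) := by rw [h3]; group
          _ = z * v⁻¹ * (v * η) := by rw [hDc η ⟨hfix, hfix'⟩ v hvD]
          _ = z * η := by group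
      refine h.fpf hzA hz1 (v • a • α) (smul_left_cancel v⁻¹ ?_)
      rw [← mul_smul, ← mul_smul, hconjz, hδ, inv_smul_smul]

/-- An involution of the regular subgroup and an involution with a fixed point are not both even. -/
theorem not_both (hns : ¬ Group.IsSolvable G) [h2 : IsMultiplyPretransitive G Ω 2] {z w : G} (hzA : z ∈ A)
    (hz : z * z = 1) (hz1 : z ≠ 1) (hw : w • α = α) (hww : w * w = 1) (hw1 : w ≠ 1) :
    sgn G Ω z = -1 ∨ sgn G Ω w = -1 := by
  classical
  by_contra hcon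
  push Not at hcon
  have hzs := (units_cases _).resolve_right hcon.1
  have hws := (units_cases _).resolve_right hcon.2
  haveI := h.pretransitive
  set β := z • α with hβdef
  have hβα : β ≠ α := h.zne hzA hz1
  have hzβ : z • β = α := by rw [hβdef, ← mul_smul, hz, one_smul]
  -- a conjugate of `w` interchanging `α` and `β`
  obtain ⟨γ, hγ⟩ : ∃ γ, w • γ ≠ γ := by
    by_contra hc
    push Not at hc
    exact hw1 (h.faithful w hc)
  obtain ⟨g, hg1, hg2⟩ := is_two_pretransitive_iff.1 h2 (Ne.symm hγ) (Ne.symm hβα)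
  set w' := g * w * g⁻¹ with hw'
  have hw'α : w' • α = β := by rw [hw', ← hg1, mul_smul, inv_smul_smul, mul_smul, hg2]
  have hw'β : w' • β = α := by
    rw [hw', ← hg2, mul_smul, inv_smul_smul, mul_smul, ← mul_smul w w, hww, one_smul, hg1]
  have hw'w' : w' * w' = 1 := by
    rw [hw', show g * w * g⁻¹ * (g * w * g⁻¹) = g * (w * w) * g⁻¹ by group, hww]; group
  set D := stabilizer G α ⊓ stabilizer G β with hDdef
  have hD : IsCyclic ↥D := h.twoPoint_cyclic hβα
  have hDc : ∀ u ∈ D, ∀ v ∈ D, u * v = v * u := fun u hu v hv => by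
    haveI := hD
    exact congrArg Subtype.val (IsMulCommutative.is_comm.comm (⟨u, hu⟩ : ↥D) ⟨v, hv⟩)
  set d := z * w' with hd
  have hdD : d ∈ D := ⟨by show d • α = α; rw [hd, mul_smul, hw'α, hzβ],
    by show d • β = β; rw [hd, mul_smul, hw'β]⟩
  have hdsgn : sgn G Ω d = 1 := by
    rw [hd, hw', map_mul, map_mul, map_mul, hzs, hws, one_mul, mul_one, ← map_mul, mul_inv_cancel, map_one]
  have hzdz : z * d * z = d⁻¹ := by
    rw [hd, mul_inv_rev, inv_eq_of_mul_eq_one_left hw'w', inv_eq_of_mul_eq_one_left hz,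
      show z * (z * w') * z = z * z * (w' * z) by group, hz, one_mul]
  -- `d` is a square in `D`
  obtain ⟨y, hyD, hsgn⟩ := h.exists_gen hns hβα
  have hyodd : sgn G Ω y = -1 := by
    obtain ⟨⟨g₁, hg₁⟩, hgen₁⟩ := h.cyc.exists_generator
    haveI : Nonempty Ω := ⟨α⟩
    have h1 : sgn G Ω g₁ = -1 := sgn_of_transitive (h.even hns).1 fun x x' => by
      obtain ⟨b, hb, e⟩ := h.trans x x'
      obtain ⟨i, hi⟩ := hgen₁ ⟨b, hb⟩
      exact ⟨i, by rw [show g₁ ^ i = b from congrArg Subtype.val hi, e]⟩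
    haveI : IsPreprimitive G Ω := isPreprimitive_of_is_two_pretransitive h2
    obtain ⟨b, hb, e⟩ := sgn_stab_ne (sgn G Ω) (h.three_le hns) (g₀ := g₁) (by rw [h1]; decide) α
    exact hsgn ⊤ ((sgn G Ω).comp (⊤ : Subgroup G).subtype) trivial ⟨⟨b, mem_top _⟩, hb, e⟩
  obtain ⟨⟨t, ht⟩, hgen⟩ := hD.exists_generator
  obtain ⟨j, hj⟩ := hgen ⟨y, hyD⟩
  have hj' : t ^ j = y := congrArg Subtype.val hj
  have ht1 : sgn G Ω t = -1 := (units_cases _).resolve_left fun e => by
    rw [← hj', map_zpow, e, one_zpow] at hyodd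
    exact absurd hyodd (by decide)
  obtain ⟨i, hi⟩ := hgen ⟨d, hdD⟩
  have hi' : t ^ i = d := congrArg Subtype.val hi
  obtain ⟨e, heD, hee⟩ : ∃ e ∈ D, e * e = d := by
    rcases Int.even_or_odd i with ⟨k, rfl⟩ | ⟨k, rfl⟩
    · exact ⟨t ^ k, D.zpow_mem ht k, by rw [← zpow_add, hi']⟩
    · exfalso
      rw [← hi', map_zpow, ht1, zpow_add, zpow_mul, zpow_one, zpow_two, units_sq,
        one_zpow, one_mul] at hdsgn
      exact absurd hdsgn (by decide)
  have hze : z * e * z ∈ D := by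
    refine ⟨?_, ?_⟩ <;> show (z * e * z) • _ = _
    · rw [mul_smul, mul_smul, ← hβdef, show e • β = β from heD.2, hzβ]
    · rw [mul_smul, mul_smul, hzβ, show e • α = α from heD.1]
  set η := z * e * z * e with hη
  have hηD : η ∈ D := D.mul_mem hze heD
  have hηη : η * η = 1 := by
    rw [hη]
    nth_rw 2 [hDc _ hze e heD]
    rw [show z * e * z * e * (e * (z * e * z)) = z * e * z * (e * e) * (z * e * z) by group, hee,
      hDc _ hze d hdD, show d * (z * e * z) * (z * e * z) = d * (z * e * (z * z) * e * z) by group, hz, mul_one,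
      show z * e * e * z = z * (e * e) * z by group, hee, hzdz, mul_inv_cancel]
  -- `w'` is conjugate to `z η`
  have hw'eq : w' = z * d := by rw [hd, ← mul_assoc, hz, one_mul]
  have hkey : e⁻¹ * z * e = z * d * η := by
    have hinv : η⁻¹ = η := inv_eq_of_mul_eq_one_left hηη
    have hz' : z⁻¹ = z := inv_eq_of_mul_eq_one_left hz
    calc e⁻¹ * z * e = (z * z) * e⁻¹ * z⁻¹ * e := by rw [hz, one_mul, hz']
      _ = z * (z⁻¹ * e⁻¹ * z⁻¹ * e) := by rw [hz']; group
      _ = z * (e * (z * e * z * e)⁻¹ * e) := by group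
      _ = z * (η * d) := by rw [← hη, hinv, hDc e heD η hηD, mul_assoc η, hee]
      _ = z * d * η := by rw [hDc η hηD d hdD]; exact (mul_assoc z d η).symm
  by_cases hη1 : η = 1
  · rw [hη1, mul_one, ← hw'eq] at hkey
    have h1 : w' • (g • α) = g • α := by rw [hw', mul_smul, inv_smul_smul, mul_smul, hw]
    refine h.fpf hzA hz1 (e • g • α) (smul_left_cancel e⁻¹ ?_)
    rw [← mul_smul, ← mul_smul, hkey, h1, inv_smul_smul]
  have hzηz : z * η * z = η := invol_unique hD
    (by
      refine ⟨?_, ?_⟩ <;> show (z * η * z) • _ = _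
      · rw [mul_smul, mul_smul, ← hβdef, show η • β = β from hηD.2, hzβ]
      · rw [mul_smul, mul_smul, hzβ, show η • α = α from hηD.1])
    hηD (by rw [show z * η * z * (z * η * z) = z * η * (z * z) * η * z by group, hz, mul_one,
      show z * η * η * z = z * (η * η) * z by group, hηη, mul_one, hz])
    (fun e' => hη1 (by
      calc η = (z * z) * η * (z * z) := by rw [hz, one_mul, mul_one]
        _ = z * (z * η * z) * z := by group
        _ = 1 := by rw [e', mul_one, hz])) hηη hη1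
  have hcomm : z * η = η * z := by
    calc z * η = z * η * (z * z) := by rw [hz, mul_one]
      _ = z * η * z * z := by group
      _ = η * z := by rw [hzηz]
  refine h.no_bad hns (η := η) ⟨hzA, hz, hz1, hηD.1, hηD.2, hηη, hη1, hcomm, ?_, ⟨e • g • α, ?_⟩⟩
  · rw [hη, map_mul, map_mul, map_mul, hzs, one_mul, mul_one, units_sq]
  · have hceη : e * η = η * e := hDc e heD η hηD
    have h1 : e * w' * e⁻¹ = z * η := by
      have h2 : z * d = e⁻¹ * z * e * η := by rw [hkey, mul_assoc, hηη, mul_one]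
      rw [hw'eq, h2, mul_assoc (e⁻¹ * z), hceη]
      group
    rw [← h1, mul_smul, inv_smul_smul, mul_smul, hw', mul_smul, inv_smul_smul, mul_smul, hw]

end Cfg

end Cfsg.Agent.Invol.CyclicZ
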