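import Cfsg.Agent.Lib.Invol.CyclicZ.NotBoth
import Cfsg.Agent.Lib.Invol.BrauerSuzuki
import Cfsg.Agent.Lib.Invol.Dihedral
import Cfsg.Agent.Lib.Grp.Cores
import Cfsg.Agent.Lib.Grp.PComponents

/-!
# The Sylow 2-subgroup is dihedral

The Sylow 2-subgroup has a cyclic subgroup of index two generated by an odd permutation and an odd involution
outside it; its even part is then cyclic, generalised quaternion or dihedral, and only the last survives.
-/

set_option autoImplicit false
set_option linter.style.haveILetI false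
set_option linter.unusedSectionVars false

namespace Cfsg.Agent.Invol.CyclicZ

open MulAction Subgroup

/-- The solvable radical is trivial. -/
def NoRad (G : Type*) [Group G] : Prop := ∀ N : Subgroup G, N.Normal → Group.IsSolvable ↥N → N = ⊥

theorem NoRad.of_comm {G : Type*} [Group G] (hR : NoRad G) {N : Subgroup G} (hN : N.Normal)
    (hc : ∀ a ∈ N, ∀ b ∈ N, a * b = b * a) : N = ⊥ :=
  hR N hN (Group.isSolvable_of_comm fun a b => Subtype.ext (hc a a.2 b b.2))

theorem NoRad.oddCore {G : Type*} [Group G] [Finite G] (hR : NoRad G) : Cfsg.oddCore G = ⊥ :=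
  hR _ Grp.pPrimeCore_isNormal (Cfsg.Agent.S0205.result (Nat.coprime_two_right.1 Grp.pPrimeCore_coprime))

/-- Two factorisations of a number as a power of two times an odd number. -/
theorem two_pow_part {a b u v : ℕ} (hu : Odd u) (hv : Odd v) (h : 2 ^ a * u = 2 ^ b * v) : 2 ^ a = 2 ^ b := by
  have key : ∀ {a b u v : ℕ}, Odd v → 2 ^ a * u = 2 ^ b * v → 2 ^ a ∣ 2 ^ b := fun {a b u v} hv h =>
    (Nat.Coprime.pow_left _ (Nat.coprime_two_left.2 hv)).dvd_of_dvd_mul_right (h ▸ dvd_mul_right _ _)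
  exact Nat.dvd_antisymm (key hv h) (key hu h.symm)

section Pair

variable {G : Type*} [Group G] [Finite G]

/-- The Sylow subgroup is dihedral. -/
theorem dihedral_of_pair (hR : NoRad G) (hns : ¬ Group.IsSolvable G) (χ : G →* ℤˣ) (P : Sylow 2 G) {x t : G}
    (hx : x ∈ (P : Subgroup G)) (ht : t ∈ (P : Subgroup G)) (hxs : χ x = -1) (hts : χ t = -1) (htt : t * t = 1)
    (htx : t ∉ zpowers x) (hcard : Nat.card ↥(P : Subgroup G) = 2 * orderOf x) :
    ∃ m, Nonempty (↥(P : Subgroup G) ≃* DihedralGroup (2 ^ m)) := by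
  classical
  haveI : Fact (Nat.Prime 2) := ⟨Nat.prime_two⟩
  set C := zpowers x with hC
  have hCP : C ≤ (P : Subgroup G) := zpowers_le.2 hx
  have hidx : (C.subgroupOf (P : Subgroup G)).index = 2 := by
    have h1 := (C.subgroupOf (P : Subgroup G)).card_mul_index
    rw [Nat.card_congr (subgroupOfEquivOfLe hCP).toEquiv, hC, Nat.card_zpowers, hcard, mul_comm 2] at h1
    exact Nat.eq_of_mul_eq_mul_left (orderOf_pos x) h1
  have hout : ∀ p ∈ (P : Subgroup G), p ∉ C → p * t ∈ C := by
    intro p hp hpC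
    have h1 := (mul_mem_iff_of_index_two hidx (a := (⟨p, hp⟩ : ↥(P : Subgroup G))) (b := ⟨t, ht⟩)).2
      (iff_of_false (by rw [mem_subgroupOf]; exact hpC) (by rw [mem_subgroupOf]; exact htx))
    exact mem_subgroupOf.1 h1
  obtain ⟨r, hr⟩ : ∃ r : ℤ, x ^ r = t * x * t := by
    haveI := normal_of_index_eq_two hidx
    have h1 := (inferInstance : (C.subgroupOf (P : Subgroup G)).Normal).conj_mem ⟨x, hx⟩
      (mem_subgroupOf.2 (mem_zpowers x)) ⟨t, ht⟩
    rw [mem_subgroupOf, hC, mem_zpowers_iff] at h1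
    obtain ⟨r, hr⟩ := h1
    exact ⟨r, hr.trans (by rw [Subgroup.coe_mul, Subgroup.coe_mul, Subgroup.coe_inv, inv_eq_of_mul_eq_one_left htt])⟩
  have hsq : ∀ i : ℤ, x ^ i * t * (x ^ i * t) = x ^ (i * (1 + r)) := by
    intro i
    have h1 : t * x ^ i * t = (x ^ r) ^ i := by
      rw [hr]
      have h2 : t * x ^ i * t⁻¹ = (t * x * t⁻¹) ^ i := (conj_zpow).symm
      rwa [inv_eq_of_mul_eq_one_left htt] at h2
    rw [show x ^ i * t * (x ^ i * t) = x ^ i * (t * x ^ i * t) by group, h1, ← zpow_mul, ← zpow_add]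
    congr 1
    ring
  obtain ⟨k, hk⟩ : ∃ k, orderOf x = 2 ^ k := by
    obtain ⟨j, hj⟩ := P.isPGroup' ⟨x, hx⟩
    obtain ⟨k, -, hk⟩ := (Nat.dvd_prime_pow Nat.prime_two).1
      (orderOf_dvd_of_pow_eq_one (show x ^ 2 ^ j = 1 from congrArg Subtype.val hj))
    exact ⟨k, hk⟩
  have hk1 : 1 ≤ k := by
    rcases Nat.eq_zero_or_pos k with rfl | h
    · rw [pow_zero, orderOf_eq_one_iff] at hk
      rw [hk, map_one] at hxs
      exact absurd hxs (by decide)
    · exact h
  -- the even part
  set G₀ := χ.ker with hG₀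
  set P₀ := (P : Subgroup G) ⊓ G₀ with hP₀
  have hxt : x * t ∈ P₀ := ⟨(P : Subgroup G).mul_mem hx ht,
    show χ (x * t) = 1 by rw [map_mul, hxs, hts, units_sq]⟩
  have htop : χ.range = ⊤ := by
    refine eq_top_iff.2 fun u _ => ?_
    rcases units_cases u with rfl | rfl
    exacts [one_mem _, ⟨x, hxs⟩]
  have hG₀i : G₀.index = 2 := by
    rw [hG₀, index_ker, htop, Subgroup.card_top, Nat.card_eq_fintype_card, Fintype.card_units_int]
  have hP₀c : Nat.card ↥P₀ = orderOf x := by
    have h1 : (G₀.subgroupOf (P : Subgroup G)).index = 2 := by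
      have hker : G₀.subgroupOf (P : Subgroup G) = (χ.comp (P : Subgroup G).subtype).ker := rfl
      have htop' : (χ.comp (P : Subgroup G).subtype).range = ⊤ := by
        refine eq_top_iff.2 fun u _ => ?_
        rcases units_cases u with rfl | rfl
        exacts [one_mem _, ⟨⟨x, hx⟩, hxs⟩]
      rw [hker, index_ker, htop', Subgroup.card_top, Nat.card_eq_fintype_card, Fintype.card_units_int]
    have h2 := (G₀.subgroupOf (P : Subgroup G)).card_mul_index
    have h3 : G₀.subgroupOf (P : Subgroup G) = P₀.subgroupOf (P : Subgroup G) := by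
      ext v
      exact ⟨fun hv => ⟨v.2, hv⟩, fun hv => hv.2⟩
    rw [h1, hcard, h3,
      Nat.card_congr (subgroupOfEquivOfLe (inf_le_left : P₀ ≤ (P : Subgroup G))).toEquiv] at h2
    change Nat.card ↥P₀ * 2 = 2 * orderOf x at h2
    omega
  haveI : G₀.Normal := by rw [hG₀]; infer_instance
  have hndvd : ¬ 2 ∣ (P₀.subgroupOf G₀).index := by
    have h1 := (P₀.subgroupOf G₀).card_mul_index
    rw [Nat.card_congr (subgroupOfEquivOfLe (inf_le_right : P₀ ≤ G₀)).toEquiv, hP₀c] at h1
    have h2 := G₀.card_mul_index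
    rw [hG₀i] at h2
    have h3 := (P : Subgroup G).card_mul_index
    rw [hcard] at h3
    have h4 : (P₀.subgroupOf G₀).index = (P : Subgroup G).index := by
      refine Nat.eq_of_mul_eq_mul_left (show 0 < 2 * orderOf x from Nat.mul_pos two_pos (orderOf_pos x)) ?_
      rw [h3, ← h2, ← h1]; ring
    exact h4 ▸ P.not_dvd_index
  let S₀ : Sylow 2 ↥G₀ := (P.isPGroup'.to_le (inf_le_left : P₀ ≤ (P : Subgroup G))).comap_subtype.toSylow hndvd
  haveI hG₀s : ¬ Group.IsSolvable ↥G₀ := by
    intro hs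
    haveI := hs
    haveI : Group.IsSolvable χ.range := Group.isSolvable_of_comm fun a b => mul_comm a b
    exact hns (Group.isSolvable_of_ker_le_range G₀.subtype χ.rangeRestrict (by
      rw [χ.ker_rangeRestrict, ← hG₀, range_subtype]))
  have hnc : orderOf (x * t) ≠ orderOf x := by
    intro he
    refine hG₀s (solvable_of_cyclic_two S₀ ?_)
    have h1 : zpowers (x * t) = P₀ :=
      eq_of_le_of_card_ge (zpowers_le.2 hxt) (by rw [Nat.card_zpowers, he, hP₀c])
    refine isCyclic_of_surjective (((MulEquiv.subgroupCongr h1).trans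
      (subgroupOfEquivOfLe (inf_le_right : P₀ ≤ G₀)).symm)) (MulEquiv.surjective _)
  have hxt2 : (x * t) * (x * t) = x ^ (1 + r) := by
    have := hsq 1
    rwa [zpow_one, one_mul] at this
  have hdvd : ∀ i : ℤ, x ^ i = 1 ↔ (2 : ℤ) ^ k ∣ i := fun i => by
    rw [← orderOf_dvd_iff_zpow_eq_one, hk]; push_cast; rfl
  have hrodd : Odd r := by
    rw [← Int.not_even_iff_odd]
    rintro ⟨s, hs⟩
    have h1 : x ^ (r * 2 ^ (k - 1)) = 1 := (hdvd _).2 ⟨s, by
      rw [hs, show (2 : ℤ) ^ k = 2 * 2 ^ (k - 1) by rw [← pow_succ']; congr 1; omega]; ring⟩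
    rw [zpow_mul, hr, show t * x * t = t * x * t⁻¹ by rw [inv_eq_of_mul_eq_one_left htt], conj_zpow,
      conj_eq_one_iff, hdvd] at h1
    have h2 := Int.le_of_dvd (by positivity) h1
    have h3 : (2 : ℤ) ^ (k - 1) < 2 ^ k := pow_lt_pow_right₀ (by norm_num) (by omega)
    exact absurd h2 (not_le.2 h3)
  obtain ⟨s, rfl | rfl⟩ : ∃ s : ℤ, r = 4 * s + 1 ∨ r = 4 * s + 3 := by
    obtain ⟨q, rfl⟩ := hrodd
    rcases Int.even_or_odd q with ⟨s, rfl⟩ | ⟨s, rfl⟩
    · exact ⟨s, Or.inl (by ring)⟩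
    · exact ⟨s, Or.inr (by ring)⟩
  · -- cyclic even part
    refine absurd ?_ hnc
    rw [hk]
    have hpow : (x * t) ^ 2 ^ k = 1 := by
      rw [show 2 ^ k = 2 * 2 ^ (k - 1) by rw [← pow_succ']; congr 1; omega, pow_mul, pow_two, hxt2,
        ← zpow_natCast, ← zpow_mul, hdvd]
      refine ⟨2 * s + 1, ?_⟩
      rw [show (2 : ℤ) ^ k = 2 * 2 ^ (k - 1) by rw [← pow_succ']; congr 1; omega]
      push_cast
      ring
    obtain ⟨i, hi, hio⟩ := (Nat.dvd_prime_pow Nat.prime_two).1 (orderOf_dvd_of_pow_eq_one hpow)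
    rw [hio]
    by_contra hne
    have hlt : i < k := lt_of_le_of_ne hi fun e => hne (by rw [e])
    have h1 : (x * t) ^ 2 ^ (k - 1) = 1 := orderOf_dvd_iff_pow_eq_one.1 (hio ▸ pow_dvd_pow 2 (by omega))
    rcases Nat.lt_or_ge k 2 with hk2 | hk2
    · rw [show k - 1 = 0 by omega, pow_zero, pow_one] at h1
      exact htx (eq_inv_of_mul_eq_one_right h1 ▸ C.inv_mem (mem_zpowers x))
    · rw [show 2 ^ (k - 1) = 2 * 2 ^ (k - 2) by rw [← pow_succ']; congr 1; omega, pow_mul, pow_two, hxt2,
        ← zpow_natCast, ← zpow_mul, hdvd] at h1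
      push_cast at h1
      obtain ⟨j, hj⟩ := h1
      rw [show (2 : ℤ) ^ k = 4 * 2 ^ (k - 2) by
        rw [show (4 : ℤ) = 2 ^ 2 by norm_num, ← pow_add]; congr 1; omega] at hj
      have h2 : (2 : ℤ) * (2 * s + 1) = 4 * j := by
        refine mul_right_cancel₀ (show (2 : ℤ) ^ (k - 2) ≠ 0 by positivity) ?_
        linear_combination hj
      omega
  · -- dihedral or quaternion even part
    set e := x ^ (1 + (4 * s + 3)) with he
    have he2 : e * e = 1 := by
      have hc : t * e * t = e := by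
        have h1 : (x * t) * e = e * (x * t) := by rw [← hxt2]; group
        have h2 : x * e = e * x := by exact (Commute.self_zpow x _).eq
        have h3 : t * e = e * t := by
          refine mul_left_cancel (a := x) ?_
          rw [← mul_assoc, h1, ← mul_assoc, ← h2, mul_assoc]
        rw [h3, mul_assoc, htt, mul_one]
      have h1 : t * e * t = x ^ ((4 * s + 3) * (1 + (4 * s + 3))) := by
        rw [zpow_mul, hr, show t * x * t = t * x * t⁻¹ by rw [inv_eq_of_mul_eq_one_left htt], conj_zpow, ← he,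
          inv_eq_of_mul_eq_one_left htt]
      rw [hc, he] at h1
      have h2 : x ^ ((1 + (4 * s + 3)) * (2 * (2 * s + 1))) = 1 := by
        rw [show (1 + (4 * s + 3)) * (2 * (2 * s + 1)) = (4 * s + 3) * (1 + (4 * s + 3)) - (1 + (4 * s + 3)) by ring,
          zpow_sub, ← h1, mul_inv_cancel]
      rw [he, ← zpow_add, hdvd]
      rw [hdvd] at h2
      have hcop : IsCoprime ((2 : ℤ) ^ k) (2 * s + 1) :=
        IsCoprime.pow_left ⟨-s, 1, by ring⟩
      obtain ⟨j, hj⟩ := hcop.dvd_of_dvd_mul_right (show (2 : ℤ) ^ k ∣ (1 + (4 * s + 3)) * 2 * (2 * s + 1) by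
        rwa [mul_assoc])
      exact ⟨j, by rw [← hj]; ring⟩
    rcases eq_or_ne e 1 with he1 | he1
    · -- dihedral
      have hxt1 : orderOf (x * t) = 2 := by
        refine orderOf_eq_prime (by rw [pow_two, hxt2, he1]) fun h1 => htx ?_
        exact eq_inv_of_mul_eq_one_right h1 ▸ C.inv_mem (mem_zpowers x)
      have ht2 : orderOf t = 2 := orderOf_eq_prime (by rw [pow_two, htt]) fun h1 => htx (h1 ▸ C.one_mem)
      have hprod : x * t * t = x := by rw [mul_assoc, htt, mul_one]
      have hcl : Subgroup.closure ({x * t, t} : Set G) = (P : Subgroup G) := by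
        refine le_antisymm ((closure_le _).2 ?_) fun p hp => ?_
        · rintro u (rfl | rfl)
          exacts [(P : Subgroup G).mul_mem hx ht, ht]
        have htm : t ∈ Subgroup.closure ({x * t, t} : Set G) := subset_closure (by simp)
        have hxm : x ∈ Subgroup.closure ({x * t, t} : Set G) := by
          have h1 := mul_mem (subset_closure (by simp) : x * t ∈ Subgroup.closure ({x * t, t} : Set G)) htm
          rwa [hprod] at h1
        have hCm : C ≤ Subgroup.closure ({x * t, t} : Set G) := zpowers_le.2 hxm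
        by_cases hpC : p ∈ C
        · exact hCm hpC
        · have h1 := mul_mem (hCm (hout p hp hpC)) htm
          rwa [mul_assoc, htt, mul_one] at h1
      obtain ⟨d⟩ := Invol.nonempty_mulEquiv_dihedralGroup hxt1 ht2
      rw [hprod, hk] at d
      exact ⟨k, ⟨(MulEquiv.subgroupCongr hcl).symm.trans d⟩⟩
    · -- quaternion even part: a central involution
      exfalso
      have huniq : ∀ u ∈ (S₀ : Subgroup ↥G₀), ∀ v ∈ (S₀ : Subgroup ↥G₀), orderOf u = 2 → orderOf v = 2 → u = v := by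
        have hin : ∀ u ∈ (S₀ : Subgroup ↥G₀), orderOf u = 2 → (u : G) ∈ C ∧ (u : G) * u = 1 ∧ (u : G) ≠ 1 := by
          intro u hu ho
          have huu : (u : G) * u = 1 := congrArg Subtype.val (Invol.mul_self_of_orderOf_two ho)
          have hu1 : (u : G) ≠ 1 := fun h1 => Invol.ne_one_of_orderOf_two ho (Subtype.ext h1)
          refine ⟨?_, huu, hu1⟩
          by_contra hC'
          have huP : (u : G) ∈ P₀ := hu
          obtain ⟨i, hi⟩ := hout _ huP.1 hC'
          have hi' : x ^ i * t = u := by rw [show x ^ i = (u : G) * t from hi, mul_assoc, htt, mul_one]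
          have hiodd : Odd i := by
            rw [← Int.not_even_iff_odd]
            rintro ⟨j, rfl⟩
            have h1 : χ (u : G) = 1 := huP.2
            rw [← hi', map_mul, zpow_add, map_mul, units_sq, hts, one_mul] at h1
            exact absurd h1 (by decide)
          have h1 : e = 1 := by
            rw [← hi', hsq] at huu
            obtain ⟨j, rfl⟩ := hiodd
            rw [show (2 * j + 1) * (1 + (4 * s + 3)) = (1 + (4 * s + 3) + (1 + (4 * s + 3))) * j + (1 + (4 * s + 3)) by ring,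
              zpow_add, zpow_mul, zpow_add, ← he, he2, one_zpow, one_mul] at huu
            exact huu
          exact he1 h1
        intro u hu v hv huo hvo
        obtain ⟨hu1, hu2, hu3⟩ := hin u hu huo
        obtain ⟨hv1, hv2, hv3⟩ := hin v hv hvo
        exact Subtype.ext (invol_unique (D := C) inferInstance hu1 hv1 hu2 hu3 hv2 hv3)
      have hev : 2 ∣ Nat.card ↥G₀ := by
        have h1 : 2 ∣ Nat.card ↥P₀ := by
          rw [hP₀c, hk]
          exact dvd_pow_self 2 (by omega)
        exact h1.trans (card_dvd_of_le (inf_le_right : P₀ ≤ G₀))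
      obtain ⟨z, hz⟩ := exists_prime_orderOf_dvd_card' (G := ↥G₀) 2 hev
      obtain ⟨N, hN, hNodd, hzN⟩ := BS.exists_odd_normal (BS.twoRankOne_of_sylow S₀ huniq) hz
      have hN1 : N = ⊥ := by
        have h0 : N ≤ Cfsg.pPrimeCore 2 ↥G₀ := Grp.le_pPrimeCore hN (Nat.coprime_two_right.2 hNodd)
        have h2 : (Cfsg.pPrimeCore 2 ↥G₀).map G₀.subtype = ⊥ := by
          rw [Grp.pPrimeCore_map_eq]
          exact le_bot_iff.1 (inf_le_left.trans hR.oddCore.le)
        rw [Subgroup.map_eq_bot_iff_of_injective _ G₀.subtype_injective] at h2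
        exact le_bot_iff.1 (h2 ▸ h0)
      have hzc : z ∈ center ↥G₀ := mem_center_iff.2 fun g => by
        have h1 := hzN g
        rw [hN1, mem_bot, mul_inv_eq_one, mul_inv_eq_iff_eq_mul] at h1
        exact h1.symm
      have h3 : (center ↥G₀).map G₀.subtype = ⊥ := by
        refine hR.of_comm inferInstance ?_
        rintro _ ⟨a, ha, rfl⟩ _ ⟨b, hb, rfl⟩
        rw [← map_mul, ← map_mul, mem_center_iff.1 hb a]
      rw [Subgroup.map_eq_bot_iff_of_injective _ G₀.subtype_injective] at h3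
      exact Invol.ne_one_of_orderOf_two hz (mem_bot.1 (h3 ▸ hzc))

end Pair

variable {G : Type*} [Group G] [Finite G] {Ω : Type*} [MulAction G Ω] [Finite Ω] {A : Subgroup G} {α : Ω}

/-- The Sylow 2-subgroups are dihedral. -/
theorem Cfg.exists_dihedral (h : Cfg A α) (hR : NoRad G) (hns : ¬ Group.IsSolvable G) [IsPreprimitive G Ω] :
    ∃ (P : Sylow 2 G) (m : ℕ), Nonempty (↥(P : Subgroup G) ≃* DihedralGroup (2 ^ m)) := by
  classical
  haveI : Fact (Nat.Prime 2) := ⟨Nat.prime_two⟩
  haveI := h.zgrp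
  haveI := h.cyc
  haveI hpre := h.pretransitive
  haveI h2 := h.two_trans hns
  haveI : Nonempty Ω := ⟨α⟩
  set χ := sgn G Ω
  set B := stabilizer G α with hBdef
  obtain ⟨hne, hBe⟩ := h.even hns
  obtain ⟨⟨g, hg⟩, hgen⟩ := h.cyc.exists_generator
  have hgord : orderOf g = Nat.card Ω := by
    rw [← h.card_A, ← orderOf_mk g hg]
    exact orderOf_eq_card_of_forall_mem_zpowers hgen
  have hgtr : ∀ x x' : Ω, ∃ i : ℤ, g ^ i • x = x' := fun x x' => by
    obtain ⟨b, hb, e⟩ := h.trans x x'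
    obtain ⟨i, hi⟩ := hgen ⟨b, hb⟩
    exact ⟨i, by rw [show g ^ i = b from congrArg Subtype.val hi, e]⟩
  have hgs : χ g = -1 := sgn_of_transitive hne hgtr
  obtain ⟨Q⟩ : Nonempty (Sylow 2 ↥B) := inferInstance
  obtain ⟨⟨y, hy⟩, hygen⟩ := (inferInstance : IsCyclic ↥(Q : Subgroup ↥B)).exists_generator
  have hQle : (Q : Subgroup ↥B) ≤ zpowers y := fun u hu => by
    obtain ⟨i, hi⟩ := hygen ⟨u, hu⟩
    exact ⟨i, congrArg Subtype.val hi⟩
  have hyodd : χ (y : G) = -1 := by
    obtain ⟨b, hb, e⟩ := sgn_stab_ne χ (h.three_le hns) (g₀ := g) (by rw [hgs]; decide) α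
    exact sgn_sylow (χ.comp B.subtype) ⟨⟨b, hb⟩, e⟩ Q hQle
  obtain ⟨a, ha⟩ := IsPGroup.iff_card.1 Q.isPGroup'
  have hyord : orderOf (y : G) = 2 ^ a := by
    rw [orderOf_coe, ← ha, ← orderOf_mk y hy]
    exact orderOf_eq_card_of_forall_mem_zpowers hygen
  have hindexB : 2 ^ a * (Q : Subgroup ↥B).index = Nat.card ↥B := ha ▸ (Q : Subgroup ↥B).card_mul_index
  obtain ⟨zA, hzA⟩ := exists_prime_orderOf_dvd_card' (G := ↥A) 2 (h.card_A ▸ even_iff_two_dvd.1 hne)
  obtain ⟨wB, hwB⟩ := exists_prime_orderOf_dvd_card' (G := ↥B) 2 (even_iff_two_dvd.1 hBe)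
  have hsqz : (zA : G) * zA = 1 := congrArg Subtype.val (Invol.mul_self_of_orderOf_two hzA)
  have hsqw : (wB : G) * wB = 1 := congrArg Subtype.val (Invol.mul_self_of_orderOf_two hwB)
  have hz1 : (zA : G) ≠ 1 := fun e => Invol.ne_one_of_orderOf_two hzA (Subtype.ext e)
  have hw1 : (wB : G) ≠ 1 := fun e => Invol.ne_one_of_orderOf_two hwB (Subtype.ext e)
  -- a Sylow subgroup over a cyclic subgroup with a conjugate of an involution
  have mk : ∀ (x u : G), orderOf u = 2 → χ x = -1 → χ u = -1 →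
      (∀ c : G, c * u * c⁻¹ ∉ zpowers x) → (∀ P : Sylow 2 G, Nat.card ↥(P : Subgroup G) = 2 * orderOf x) →
      IsPGroup 2 ↥(zpowers x) → ∃ (P : Sylow 2 G) (m : ℕ), Nonempty (↥(P : Subgroup G) ≃* DihedralGroup (2 ^ m)) := by
    intro x u hu hxs hus hnot hcard hxp
    obtain ⟨P, hP⟩ := hxp.exists_le_sylow
    have hup : IsPGroup 2 ↥(zpowers u) := IsPGroup.of_card (n := 1) (by rw [Nat.card_zpowers, hu, pow_one])
    obtain ⟨P', hP'⟩ := hup.exists_le_sylow
    obtain ⟨c, hc⟩ := MulAction.exists_smul_eq G P' P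
    refine ⟨P, dihedral_of_pair hR hns χ P (t := c * u * c⁻¹) (hP (mem_zpowers x)) ?_ hxs ?_ ?_ (hnot c) (hcard P)⟩
    · rw [← hc, Sylow.coe_subgroup_smul]
      exact ⟨u, hP' (mem_zpowers u), rfl⟩
    · rw [map_mul, map_mul, map_inv, hus, mul_neg, mul_one, neg_mul, mul_inv_cancel]
    · rw [show c * u * c⁻¹ * (c * u * c⁻¹) = c * (u * u) * c⁻¹ by group, Invol.mul_self_of_orderOf_two hu]
      group
  obtain ⟨j, hj⟩ := hgen zA
  have hj' : g ^ j = zA := congrArg Subtype.val hj
  rcases h.not_both hns zA.2 hsqz hz1 wB.2 hsqw hw1 with hzs | hws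
  · -- the degree is twice an odd number
    obtain ⟨n', hn'⟩ := hne
    have hodd : Odd n' := by
      have hjodd : Odd j := by
        rw [← Int.not_even_iff_odd]
        rintro ⟨i, rfl⟩
        rw [← hj', map_zpow, hgs, zpow_add, units_sq] at hzs
        exact absurd hzs (by decide)
      have h1 : (orderOf g : ℤ) ∣ j + j := orderOf_dvd_iff_zpow_eq_one.2 (by rw [zpow_add, hj', hsqz])
      rw [hgord, hn'] at h1
      push_cast at h1
      obtain ⟨c, hc⟩ := h1
      have h2 : j = n' * c := by linarith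
      rw [h2, Int.odd_mul] at hjodd
      exact_mod_cast hjodd.1
    refine mk (y : G) zA ((Subgroup.orderOf_coe zA).trans hzA) hyodd hzs ?_ ?_ ?_
    · intro c hc
      refine h.fpf zA.2 hz1 (c⁻¹ • α) (smul_left_cancel c ?_)
      rw [smul_inv_smul, ← mul_smul, ← mul_smul]
      exact (zpowers_le.2 y.2 hc : c * (zA : G) * c⁻¹ ∈ B)
    · intro P
      obtain ⟨b, hb⟩ := IsPGroup.iff_card.1 P.isPGroup'
      rw [hb, hyord, ← pow_succ']
      refine two_pow_part (u := (P : Subgroup G).index) (v := n' * (Q : Subgroup ↥B).index)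
        (Nat.odd_iff.2 (Nat.two_dvd_ne_zero.1 P.not_dvd_index))
        (hodd.mul (Nat.odd_iff.2 (Nat.two_dvd_ne_zero.1 Q.not_dvd_index))) ?_
      rw [← hb, card_mul_index, h.card_G, ← hindexB, hn', pow_succ']
      ring
    · exact IsPGroup.of_card (n := a) (by rw [Nat.card_zpowers, hyord])
  · -- the stabiliser has order twice an odd number
    have ha1 : a = 1 := by
      obtain ⟨Q', hQ'⟩ := (IsPGroup.of_card (n := 1) (G := ↥(zpowers wB))
        (by rw [Nat.card_zpowers, hwB, pow_one])).exists_le_sylow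
      haveI : IsCyclic ↥(Q' : Subgroup ↥B) := inferInstance
      obtain ⟨⟨y', hy'⟩, hygen'⟩ := (inferInstance : IsCyclic ↥(Q' : Subgroup ↥B)).exists_generator
      have hy's : χ (y' : G) = -1 := sgn_sylow (χ.comp B.subtype) ⟨y, hyodd⟩ Q' fun u hu => by
        obtain ⟨i, hi⟩ := hygen' ⟨u, hu⟩
        exact ⟨i, congrArg Subtype.val hi⟩
      obtain ⟨i, hi⟩ := hygen' ⟨wB, hQ' (mem_zpowers wB)⟩
      have hi' : (y' : G) ^ i = wB := by
        rw [← SubgroupClass.coe_zpow]
        exact congrArg (fun v : ↥(Q' : Subgroup ↥B) => ((v : ↥B) : G)) hi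
      have hiodd : Odd i := by
        rw [← Int.not_even_iff_odd]
        rintro ⟨l, rfl⟩
        rw [← hi', map_zpow, hy's, zpow_add, units_sq] at hws
        exact absurd hws (by decide)
      have hord : orderOf (y' : G) = 2 ^ a := by
        rw [orderOf_coe, ← orderOf_mk y' hy', orderOf_eq_card_of_forall_mem_zpowers hygen', ← ha]
        exact Nat.card_congr (Sylow.equiv Q' Q).toEquiv
      have h1 : ((2 : ℤ) ^ a) ∣ 2 * i := by
        have := orderOf_dvd_iff_zpow_eq_one.2 (show (y' : G) ^ (2 * i) = 1 by rw [two_mul, zpow_add, hi', hsqw])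
        rw [hord] at this
        exact_mod_cast this
      rcases Nat.lt_or_ge a 2 with ha2 | ha2
      · rcases Nat.eq_zero_or_pos a with rfl | ha0
        · exfalso
          rw [pow_zero, orderOf_eq_one_iff] at hord
          rw [hord, map_one] at hy's
          exact absurd hy's (by decide)
        · omega
      · exfalso
        obtain ⟨l, rfl⟩ := hiodd
        have h4 : (4 : ℤ) ∣ 2 * (2 * l + 1) := dvd_trans (pow_dvd_pow 2 ha2) h1
        omega
    obtain ⟨c, u, hu, hn⟩ := Nat.exists_eq_two_pow_mul_odd (show Nat.card Ω ≠ 0 by rw [← hgord]; exact (orderOf_pos g).ne')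
    set x := g ^ u with hx
    have hxord : orderOf x = 2 ^ c := by
      rw [hx, orderOf_pow, hgord, hn, Nat.gcd_mul_left_left, Nat.mul_div_cancel _ hu.pos]
    have hxs : χ x = -1 := by rw [hx, map_pow, hgs, hu.neg_one_pow]
    refine mk x wB ((Subgroup.orderOf_coe wB).trans hwB) hxs hws ?_ ?_ ?_
    · intro d hd
      have hdA : d * (wB : G) * d⁻¹ ∈ A := zpowers_le.2 (hx ▸ A.pow_mem hg u) hd
      refine hw1 ?_
      have h1 := h.semi _ hdA (d • α) (by
        rw [mul_smul, inv_smul_smul, mul_smul, show (wB : G) • α = α from wB.2])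
      exact conj_eq_one_iff.1 h1
    · intro P
      obtain ⟨b, hb⟩ := IsPGroup.iff_card.1 P.isPGroup'
      rw [hb, hxord, ← pow_succ']
      refine two_pow_part (u := (P : Subgroup G).index) (v := u * (Q : Subgroup ↥B).index)
        (Nat.odd_iff.2 (Nat.two_dvd_ne_zero.1 P.not_dvd_index))
        (hu.mul (Nat.odd_iff.2 (Nat.two_dvd_ne_zero.1 Q.not_dvd_index))) ?_
      rw [← hb, card_mul_index, h.card_G, ← hindexB, hn, ha1, pow_succ']
      ring
    · exact IsPGroup.of_card (n := c) (by rw [Nat.card_zpowers, hxord])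

end Cfsg.Agent.Invol.CyclicZ
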